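import Mathlib

/-!
# Groups of lifts to the universal cover of a graph with a group action
-/

set_option autoImplicit false

namespace Cfsg.Agent.H7.Tree

open FreeGroup

section Convex

variable {E : Type*} [DecidableEq E]

theorem norm_mk_mul (x : E × Bool) (z : FreeGroup E) :
    norm (mk [x] * z) = norm z + 1 ∨
      (norm (mk [x] * z) + 1 = norm z ∧ z.toWord.head? = some (x.1, !x.2)) := by
  have h : (mk [x] * z).toWord = reduce (x :: z.toWord) := by
    conv_lhs => rw [← mk_toWord (x := z), mul_mk, toWord_mk]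
    rfl
  simp only [FreeGroup.norm, h, reduce.cons, reduce_toWord]
  rcases z.toWord with _ | ⟨y, L⟩
  · simp
  · by_cases hxy : x.1 = y.1 ∧ x.2 = !y.2
    · right
      simp only [if_pos hxy, List.length_cons, List.head?_cons, true_and]
      rw [hxy.1, hxy.2, Bool.not_not]
    · left
      simp only [if_neg hxy, List.length_cons]

theorem norm_convex {x y : E × Bool} (h : x.1 = y.1 → x.2 = y.2) (z : FreeGroup E) :
    2 * norm z ^ 2 < norm (mk [x] * z) ^ 2 + norm ((mk [y])⁻¹ * z) ^ 2 := by
  rw [inv_mk]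
  change _ < _ + norm (mk [(y.1, !y.2)] * z) ^ 2
  rcases norm_mk_mul x z with h1 | ⟨h1, h1'⟩ <;>
    rcases norm_mk_mul (y.1, !y.2) z with h2 | ⟨h2, h2'⟩
  · rw [h1, h2]; nlinarith
  · rw [h1, ← h2]; nlinarith
  · rw [h2, ← h1]; nlinarith
  · exfalso
    rw [h1'] at h2'
    simp only [Bool.not_not, Option.some.injEq, Prod.mk.injEq] at h2'
    rw [← h h2'.1] at h2'
    simp at h2'

variable {ι : Type*} [Fintype ι] [Nonempty ι]

/-- The sum of the squared distances to a finite family of points. -/
def pot (y : ι → FreeGroup E) (u : FreeGroup E) : ℕ := ∑ i, norm (u⁻¹ * y i) ^ 2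

theorem pot_convex (y : ι → FreeGroup E) (u : FreeGroup E) {a b : E × Bool}
    (h : a.1 = b.1 → a.2 = b.2) :
    2 * pot y (u * mk [a]) < pot y u + pot y (u * mk [a] * mk [b]) := by
  simp only [pot, Finset.mul_sum, ← Finset.sum_add_distrib]
  refine Finset.sum_lt_sum_of_nonempty Finset.univ_nonempty fun i _ => ?_
  have := norm_convex h ((u * mk [a])⁻¹ * y i)
  rwa [show mk [a] * ((u * mk [a])⁻¹ * y i) = u⁻¹ * y i by group,
    show (mk [b])⁻¹ * ((u * mk [a])⁻¹ * y i) = (u * mk [a] * mk [b])⁻¹ * y i by group] at this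

theorem pot_lt (y : ι → FreeGroup E) (L : List (E × Bool)) : ∀ (u : FreeGroup E) (a b : E × Bool),
    IsReduced (a :: b :: L) → pot y u ≤ pot y (u * mk [a]) →
      pot y (u * mk [a]) < pot y (u * mk (a :: b :: L)) := by
  induction L with
  | nil =>
    intro u a b hr h
    have := pot_convex y u (isReduced_cons_cons.1 hr).1
    rw [mul_assoc, mul_mk] at this
    change _ < _ + pot y (u * mk [a, b]) at this
    omega
  | cons c L ih =>
    intro u a b hr h
    have h1 := pot_convex y u (isReduced_cons_cons.1 hr).1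
    have h2 := ih (u * mk [a]) b c (isReduced_cons_cons.1 hr).2 (by omega)
    rw [mul_assoc u (mk [a]) (mk (b :: c :: L)), mul_mk] at h2
    change _ < pot y (u * mk (a :: b :: c :: L)) at h2
    omega

end Convex

section Path

variable {V E : Type*} (s t : E → V)

/-- The initial vertex of a letter. -/
def st (x : E × Bool) : V := cond x.2 (s x.1) (t x.1)

/-- Words that are paths in the graph. -/
def IsPath : V → List (E × Bool) → V → Prop
  | a, [], b => a = b
  | a, x :: L, b => st s t x = a ∧ IsPath (st s t (x.1, !x.2)) L b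

variable {s t}

theorem isPath_append {L L' : List (E × Bool)} : ∀ {a c : V},
    IsPath s t a (L ++ L') c ↔ ∃ b, IsPath s t a L b ∧ IsPath s t b L' c := by
  induction L with
  | nil => intro a c; simp [IsPath]
  | cons x L ih =>
    intro a c
    simp only [List.cons_append, IsPath, ih]
    exact ⟨fun ⟨h, b, h1, h2⟩ => ⟨b, ⟨h, h1⟩, h2⟩, fun ⟨b, ⟨h, h1⟩, h2⟩ => ⟨h, b, h1, h2⟩⟩

theorem IsPath.invRev {L : List (E × Bool)} : ∀ {a b : V},
    IsPath s t a L b → IsPath s t b (invRev L) a := by
  induction L with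
  | nil => intro a b h; exact Eq.symm h
  | cons x L ih =>
    intro a b h
    rw [invRev_cons]
    refine isPath_append.2 ⟨_, ih h.2, rfl, ?_⟩
    simpa [IsPath] using h.1

theorem IsPath.red {L L' : List (E × Bool)} {a b : V} (h : IsPath s t a L b) (hr : Red L L') :
    IsPath s t a L' b := by
  induction hr with
  | refl => exact h
  | tail _ hs ih =>
    obtain ⟨L₁, L₂, x, c⟩ := hs
    obtain ⟨d, h1, h2, -, h3⟩ := isPath_append.1 ih
    refine isPath_append.2 ⟨d, h1, ?_⟩
    simpa [h2] using h3

theorem IsPath.iff {L : List (E × Bool)} {G : V → Prop} (hG : ∀ x ∈ L, G (s x.1) ↔ G (t x.1)) :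
    ∀ {a b : V}, IsPath s t a L b → (G a ↔ G b) := by
  induction L with
  | nil => intro a b h; rw [show a = b from h]
  | cons x L ih =>
    intro a b h
    rw [← ih (fun y hy => hG y (List.mem_cons_of_mem _ hy)) h.2, ← h.1]
    have := hG x List.mem_cons_self
    obtain ⟨e, _ | _⟩ := x
    · exact this.symm
    · exact this

end Path

variable {K V E : Type*} [Group K] [MulAction K V] [MulAction K E]

/-- The action of `K` on the free group on the `K`-set `E`. -/
def act (K E : Type*) [Group K] [MulAction K E] : K →* MulAut (FreeGroup E) where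
  toFun σ := freeGroupCongr (MulAction.toPerm σ)
  map_one' := by
    ext1 w
    change FreeGroup.map _ w = w
    rw [← FreeGroup.map.id w]
    rw [FreeGroup.map.comp]
    congr 2
    ext e
    simp
  map_mul' σ τ := by
    ext1 w
    change FreeGroup.map _ w = FreeGroup.map _ (FreeGroup.map _ w)
    rw [FreeGroup.map.comp]
    congr 2
    ext e
    simp [mul_smul]

theorem act_mk (σ : K) (L : List (E × Bool)) :
    act K E σ (mk L) = mk (L.map fun x => (σ • x.1, x.2)) := rfl

theorem toWord_act [DecidableEq E] (σ : K) (w : FreeGroup E) :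
    (act K E σ w).toWord = w.toWord.map fun x => (σ • x.1, x.2) := by
  conv_lhs => rw [← mk_toWord (x := w), act_mk, toWord_mk]
  refine IsReduced.reduce_eq ?_
  rw [FreeGroup.IsReduced, List.isChain_map]
  exact List.IsChain.imp (fun a b h h' => h (smul_left_cancel σ h')) isReduced_toWord

theorem norm_act [DecidableEq E] (σ : K) (w : FreeGroup E) : norm (act K E σ w) = norm w := by
  simp [FreeGroup.norm, toWord_act]

variable {s t : E → V}

theorem IsPath.smul (hs : ∀ (σ : K) e, s (σ • e) = σ • s e) (ht : ∀ (σ : K) e, t (σ • e) = σ • t e)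
    (σ : K) {L : List (E × Bool)} : ∀ {a b : V}, IsPath s t a L b →
      IsPath s t (σ • a) (L.map fun x => (σ • x.1, x.2)) (σ • b) := by
  have key : ∀ (e : E) (c : Bool), st s t (σ • e, c) = σ • st s t (e, c) := by
    rintro e (_ | _)
    · exact ht σ e
    · exact hs σ e
  induction L with
  | nil => intro a b h; exact congrArg _ h
  | cons x L ih =>
    intro a b h
    refine ⟨by rw [← h.1]; exact key _ _, ?_⟩
    have := ih h.2
    rwa [← key] at this

/-- The group of lifts. -/
def lifts (hs : ∀ (σ : K) e, s (σ • e) = σ • s e) (ht : ∀ (σ : K) e, t (σ • e) = σ • t e)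
    (v : V) : Subgroup (FreeGroup E ⋊[act K E] K) where
  carrier := {g | ∃ L, mk L = g.left ∧ IsPath s t v L (g.right • v)}
  one_mem' := ⟨[], rfl, (one_smul K v).symm⟩
  mul_mem' := by
    rintro a b ⟨L, hL, h⟩ ⟨L', hL', h'⟩
    refine ⟨L ++ L'.map fun x => (a.right • x.1, x.2), ?_, isPath_append.2 ⟨_, h, ?_⟩⟩
    · rw [SemidirectProduct.mul_left, ← hL, ← hL', act_mk, mul_mk]
    · rw [SemidirectProduct.mul_right, mul_smul]
      exact h'.smul hs ht _
  inv_mem' := by
    rintro a ⟨L, hL, h⟩
    refine ⟨(invRev L).map fun x => (a.right⁻¹ • x.1, x.2), ?_, ?_⟩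
    · rw [SemidirectProduct.inv_left, ← hL, inv_mk, act_mk]
    · have := h.invRev.smul hs ht a.right⁻¹
      rwa [inv_smul_smul] at this

variable {hs : ∀ (σ : K) e, s (σ • e) = σ • s e} {ht : ∀ (σ : K) e, t (σ • e) = σ • t e} {v : V}

theorem mem_lifts [DecidableEq E] {g : FreeGroup E ⋊[act K E] K} :
    g ∈ lifts hs ht v ↔ IsPath s t v g.left.toWord (g.right • v) :=
  ⟨fun ⟨L, hL, h⟩ => by rw [← hL, toWord_mk]; exact h.red reduce.red,
    fun h => ⟨_, mk_toWord, h⟩⟩

/-- A finite group of lifts fixes a vertex of the tree. -/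
theorem exists_conj_left_eq_one [MulAction.IsPretransitive K V] (H : Subgroup (lifts hs ht v))
    [Finite H] : ∃ u : lifts hs ht v, ∀ h ∈ H, (u * h * u⁻¹).1.left = 1 := by
  classical
  have := Fintype.ofFinite H
  let f : lifts hs ht v → ℕ := fun u => ∑ h : H, norm (u⁻¹ * h.1).1.left ^ 2
  obtain ⟨u, hu⟩ : ∃ u, ∀ w, f u ≤ f w :=
    ⟨Function.argmin f, fun w => Function.argmin_le f w⟩
  let y : H → FreeGroup E := fun h => (u⁻¹ * h.1).1.left
  have hf : ∀ w : lifts hs ht v, f (u * w) = pot y w.1.left := fun w => by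
    refine Finset.sum_congr rfl fun h _ => ?_
    rw [mul_inv_rev, mul_assoc, Subgroup.coe_mul, SemidirectProduct.mul_left, Subgroup.coe_inv,
      SemidirectProduct.inv_left, SemidirectProduct.inv_right, ← _root_.map_mul,
      norm_act]
  have h1 : f u = pot y 1 := by simpa using hf 1
  have hlen : ∀ h ∈ H, (u⁻¹ * h * u).1.left.toWord.length ≤ 1 := fun h hh => by
    have e1 : pot y (u⁻¹ * h * u).1.left = pot y 1 := by
      rw [← hf, ← h1, show u * (u⁻¹ * h * u) = h * u by group]
      refine Fintype.sum_equiv (Equiv.mulLeft (⟨h, hh⟩ : H)⁻¹) _ _ fun k => ?_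
      simp [mul_assoc]
    have hp := mem_lifts.1 (u⁻¹ * h * u).2
    have hr := isReduced_toWord (x := (u⁻¹ * h * u).1.left)
    rw [← mk_toWord (x := (u⁻¹ * h * u).1.left)] at e1
    generalize (u⁻¹ * h * u).1.left.toWord = L at *
    rcases L with _ | ⟨a, _ | ⟨b, L⟩⟩
    · simp
    · simp
    · exfalso
      obtain ⟨τ, hτ⟩ := MulAction.exists_smul_eq K v (st s t (a.1, !a.2))
      have h2 := hu (u * ⟨⟨mk [a], τ⟩, [a], rfl, hp.1, hτ.symm⟩)
      rw [hf, h1] at h2
      have h3 := pot_lt y L 1 a b hr (by rwa [one_mul])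
      rw [one_mul, one_mul, e1] at h3
      exact h3.not_ge h2
  refine ⟨u⁻¹, fun h hh => ?_⟩
  rw [inv_inv]
  have h2 := hlen _ (H.mul_mem hh hh)
  have h3 := hlen h hh
  rw [show u⁻¹ * (h * h) * u = (u⁻¹ * h * u) * (u⁻¹ * h * u) by group, Subgroup.coe_mul,
    SemidirectProduct.mul_left, toWord_mul, toWord_act] at h2
  rw [← toWord_eq_nil_iff]
  generalize (u⁻¹ * h * u).1.left.toWord = L at *
  rcases L with _ | ⟨a, _ | ⟨b, L⟩⟩
  · rfl
  · simp at h2
  · simp at h3

universe u

theorem isFreeGroup_ker {K E : Type u} [Group K] [MulAction K E]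
    (G : Subgroup (FreeGroup E ⋊[act K E] K)) :
    IsFreeGroup (SemidirectProduct.rightHom.comp G.subtype).ker := by
  let φ : G.comap SemidirectProduct.inl →* (SemidirectProduct.rightHom.comp G.subtype).ker :=
    MonoidHom.codRestrict ((SemidirectProduct.inl.comp
      (G.comap SemidirectProduct.inl).subtype).codRestrict G fun x => x.2) _ fun _ => rfl
  refine IsFreeGroup.ofMulEquiv (MulEquiv.ofBijective φ ⟨fun a b h => ?_, fun g => ?_⟩)
  · exact Subtype.ext (SemidirectProduct.inl_injective (congrArg (fun x => x.1.1) h))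
  · have e : SemidirectProduct.inl g.1.1.left = g.1.1 := by
      have h : g.1.1.right = 1 := g.2
      ext <;> simp [h]
    exact ⟨⟨g.1.1.left, by rw [Subgroup.mem_comap, e]; exact g.1.2⟩, Subtype.ext (Subtype.ext e)⟩

/-- An injective homomorphism between subgroups is induced by a permutation. -/
theorem exists_perm {S : Type*} [Group S] [Finite S] (P : Subgroup S) (φ : P →* S)
    (hφ : Function.Injective φ) : ∃ σ : Equiv.Perm S, ∀ (x : P) (y : S), σ (x * y) = φ x * σ y := by
  obtain ⟨T, hT, -⟩ := P.exists_isComplement_right 1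
  obtain ⟨T', hT', -⟩ := φ.range.exists_isComplement_right 1
  have hc : Nat.card T = Nat.card T' := by
    have h1 := hT.card_mul_card
    have h2 := hT'.card_mul_card
    have h3 : Nat.card φ.range = Nat.card P := (Nat.card_congr (MonoidHom.ofInjective hφ).toEquiv).symm
    rw [← h2] at h1
    exact Nat.eq_of_mul_eq_mul_left (Nat.card_pos (α := P)) (h1.trans (congrArg (· * _) h3))
  obtain ⟨e⟩ := Finite.card_eq.1 hc
  refine ⟨hT.equiv.trans ((Equiv.prodCongr (MonoidHom.ofInjective hφ).toEquiv e).trans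
    hT'.equiv.symm), fun x y => ?_⟩
  rw [Equiv.trans_apply, hT.equiv_mul_left]
  change φ (x * _) * _ = φ x * (φ _ * _)
  rw [_root_.map_mul, mul_assoc]
  rfl

end Cfsg.Agent.H7.Tree
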