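import Cfsg.Agent.S5203
import Cfsg.Agent.Lib.H1.FusionTools
import Cfsg.Agent.Lib.Lead.Family2
import Cfsg.Agent.Lib.H8.GroupSys

/-!
# Invariance of characteristic subsystems, residual limits
-/

set_option autoImplicit false

namespace Cfsg
namespace FusionSystem

open Cfsg.Agent Cfsg.Agent.H7 Cfsg.Agent.H8

variable {Ω : Type*} [Group Ω] {S T R R' U V P Q : Subgroup Ω} {p : ℕ} {F : FusionSystem S}
  {E : FusionSystem T} {D : FusionSystem R} {D' : FusionSystem R'}

/-- An invariant subsystem of an invariant subsystem which is stable under the automorphisms of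
the middle one is invariant. -/
theorem isInvariantIn_trans_of_stable [Finite S] (h : D.IsInvariantIn F) (h' : D'.IsInvariantIn D)
    (hs : ∀ g, F.IsIso R R g → (∀ x ∈ R', g x ∈ R') ∧ ∀ P f, D'.IsMor P f →
      ∃ χ, D'.IsMor (img P g) χ ∧ ∀ x ∈ P, χ (g x) = g (f x)) : D'.IsInvariantIn F := by
  have hR := Inv.le h'
  have hsc : F.StronglyClosed R' := by
    refine stronglyClosed_iff.2 ⟨hR.trans (Inv.le h), fun P f hf x hx hx' => ?_⟩
    obtain ⟨g, f₀, hg, hf₀, e⟩ := Inv.frM h (P := P ⊓ R') (inf_le_right.trans hR)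
      (hf.mono inf_le_left)
    rw [e x ⟨hx, hx'⟩]
    exact (hs g hg).1 _ ((Inv.sc h').map_mem hf₀ ⟨hx, hx'⟩ hx')
  refine H8.isInvariantIn_iff.2 ⟨(Inv.sub h').trans (Inv.sub h), hsc, ?_, ?_⟩
  · intro P f g hf hg
    obtain ⟨g₁, f₁, hg₁, hf₁, e⟩ := Inv.frM h hR hg.mor
    have := finite_of_le (Inv.le h)
    obtain ⟨χ₁, hχ₁, e₁⟩ := Inv.autInv h' P f f₁ hf ((Inv.sc h').isIso_self hf₁)
    obtain ⟨χ, hχ, e₂⟩ := (hs g₁ hg₁).2 _ _ hχ₁
    have hP := hf.le
    have hi : img (img P f₁) g₁ = img P g := by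
      have h1 := ((Inv.sub h).isMor hf₁).isIso_img_of_le hP
      have h2 := hg₁.mor.isIso_img_of_le (hf₁.mono hP).img_le
      exact ((h2.comp' h1).congr fun x hx => (e x (hP hx)).symm).img_eq.symm
    refine ⟨χ, hi ▸ hχ, fun x hx => ?_⟩
    rw [e x (hP hx), e₂ _ (mem_img_of_mem _ hx), e₁ x hx, e _ (hf.mem hx)]
  · intro P f hP hf
    obtain ⟨g₁, f₁, hg₁, hf₁, e⟩ := Inv.frM h (hP.trans hR) hf
    obtain ⟨g₂, f₂, hg₂, hf₂, e'⟩ := Inv.frM h' hP hf₁
    exact ⟨g₁ ∘ g₂, f₂, (hsc.isIso_self (hg₁.mor.mono hR)).comp ((Inv.sub h).isIso hg₂), hf₂,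
      fun x hx => by rw [e x hx, e' x hx]; rfl⟩

theorem IsoVia.exists_sub' {Ω' : Type*} [Group Ω'] {S' T' : Subgroup Ω'} {F' : FusionSystem S'}
    {t : Ω → Ω'} {s : Ω' → Ω} (h : F.IsoVia F' t s) (hT : T ≤ S) (E : FusionSystem T)
    (e : img T t = T') : ∃ E' : FusionSystem T', E.IsoVia E' t s := by
  subst e; exact h.exists_sub hT E

variable [Finite S] [Fact p.Prime]

/-- An invariant subsystem is invariant in every saturated intermediate subsystem. -/
theorem IsInvariantIn.of_between (hS : IsPGroup p S) (h : E.IsInvariantIn F)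
    (hD : D.IsSaturated p) (h1 : E.IsSubsystemOf D) (h2 : D.IsSubsystemOf F) :
    E.IsInvariantIn D := by
  have := finite_of_le h2.le
  refine isInvariantIn_of_normal hD (hS.to_le h2.le) h1 ((Inv.sc h).of_isSubsystemOf h2 h1.le)
    (fun P f g hf hg => Inv.autInv h P f g hf (h2.isIso hg)) fun P hP _ =>
      (h2.autGroup_le P).trans (Inv.autGroup_le_normalizer h hP)

theorem isInvariantIn_of_pPowerIndex (hS : IsPGroup p S) (h : D.IsInvariantIn F)
    (hD : D.IsSaturated p) (hD' : D'.IsSaturated p) (hi : D'.HasPPowerIndexIn D p)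
    (hs : ∀ g, F.IsIso R R g → ∀ x ∈ R', g x ∈ R') : D'.IsInvariantIn F := by
  have hR := Inv.le h
  have := finite_of_le hR
  have hRp := hS.to_le hR
  have hR' := hi.1.le
  have := finite_of_le hR'
  have hn : R ≤ Subgroup.normalizer (R' : Set Ω) := fun a ha =>
    mem_normalizer_of_finite (hs _ (F.isIso_conj_of_mem_normalizer hR (hR ha)
      (Subgroup.le_normalizer ha)))
  refine isInvariantIn_trans_of_stable h (isNormalIn_of_pPowerIndex hD hRp hn hD' hi).1.2.2
    fun g hg => ⟨hs g hg, fun P f hf => ?_⟩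
  obtain ⟨g', -, hiso⟩ := Lead.AutInv.exists_isoVia (Inv.autInv h) hg
  obtain ⟨D'', hD''⟩ := hiso.exists_sub hR' D'
  have h1 := H8.IsoVia.hasPPowerIndexIn hiso hD'' hi
  have h2 : D''.IsSubsystemOf D' := le_of_hasPPowerIndexIn hRp (hD''.isSaturated hD') h1.1
    (img_le_iff.2 (hs g hg)) hi
  exact ⟨_, h2.isMor (hD''.mor P f hf), fun x hx => by rw [hD''.left x (hf.le hx)]⟩

theorem isInvariantIn_of_primeIndex (hS : IsPGroup p S) (h : D.IsInvariantIn F)
    (hD : D.IsSaturated p) {D' : FusionSystem R} (hD' : D'.IsSaturated p)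
    (hi : D'.IsInvariantIn D)
    (hn : F.autGroup R ≤ Subgroup.normalizer (D'.autGroup R : Set (MulAut R))) :
    D'.IsInvariantIn F := by
  have hR := Inv.le h
  have := finite_of_le hR
  have hRp := hS.to_le hR
  refine isInvariantIn_trans_of_stable h hi fun g hg => ⟨hg.mapsTo, fun P f hf => ?_⟩
  obtain ⟨g', hg', hiso⟩ := Lead.AutInv.exists_isoVia (Inv.autInv h) hg
  obtain ⟨D'', hD''⟩ := hiso.exists_sub' le_rfl D' hg.img_eq
  have hi' := hasPrimeToPIndexIn_of_invariant hD hi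
  have h1 := H8.IsoVia.hasPrimeToPIndexIn hiso hD'' hi'
  have h2 : D''.IsSubsystemOf D' := by
    rw [eq_ppMul_of_index hD hRp (hD''.isSaturated hD') h1]
    refine mulSys_sub_of (ppSys_sub_of_index hD hRp hi') fun α hα => ?_
    have h3 := hD''.symm.isIso (isIso_of_mem_autGroup le_rfl hα)
    rw [hg'.img_eq] at h3
    obtain ⟨β, hβ, e⟩ := h3.exists_aut
    obtain ⟨γ, hγ, e'⟩ := hg.exists_aut
    have h4 := conj_mem_of_mem_normalizer (hn hγ) hβ
    convert h4 using 1
    refine mulEquiv_ext_equivFun fun y hy => ?_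
    obtain ⟨x, hx, rfl⟩ := hg.surj y hy
    conv_rhs => rw [← e' x hx, equivFun_conj' _ _ hx, e x hx, e' _ (h3.mapsTo x hx)]
    rw [hD''.right _ (equivFun_mem α (hg.mapsTo x hx))]
  exact ⟨_, h2.isMor (hD''.mor P f hf), fun x hx => by rw [hD''.left x (hf.le hx)]⟩

omit [Fact p.Prime] in
theorem IsWeaklyNormalIn.isNormalIn_of_centralizerIn_le (h : D.IsWeaklyNormalIn F p)
    (hc : centralizerIn S R ≤ R) : D.IsNormalIn F p :=
  H8.isNormalIn_iff.2 ⟨h, fun α hα => mem_extC_of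
    (((Inv.sub h.2.2).isMor (isMor_of_mem_autGroup le_rfl hα)).mono (sup_le le_rfl hc))
    (fun _ _ => rfl) fun _ hx => R.mul_mem (R.inv_mem (hc hx)) (equivFun_mem α (hc hx))⟩

omit [Finite S] in
theorem HasPrimeToPIndexIn.trans {D D' : FusionSystem S} (h : D'.HasPrimeToPIndexIn D p)
    (h' : D.HasPrimeToPIndexIn F p) : D'.HasPrimeToPIndexIn F p :=
  hasPrimeToPIndexIn_iff.2 ⟨h.1.trans h'.1, fun P hP α hα k hk =>
    (hasPrimeToPIndexIn_iff.1 h).2 P hP α ((hasPrimeToPIndexIn_iff.1 h').2 P hP α hα k hk) k hk⟩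

omit [Finite S] in
theorem HasPrimeToPIndexIn.of_between {D D' : FusionSystem S} (h : D'.HasPrimeToPIndexIn F p)
    (h1 : D'.IsSubsystemOf D) (h2 : D.IsSubsystemOf F) : D'.HasPrimeToPIndexIn D p :=
  hasPrimeToPIndexIn_iff.2 ⟨h1, fun P hP α hα k hk =>
    (hasPrimeToPIndexIn_iff.1 h).2 P hP α (h2.autGroup_le P hα) k hk⟩

theorem IsPPrimeResidual.of_index {D B : FusionSystem S} (h : F.IsPPrimeResidual p B)
    (hD : D.IsSaturated p) (hi : D.HasPrimeToPIndexIn F p) : D.IsPPrimeResidual p B :=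
  ⟨h.1, h.2.1.of_between (h.2.2 D hD hi) hi.1, fun D' h1 h2 => h.2.2 D' h1 (h2.trans hi)⟩

omit [Finite S] [Fact p.Prime] in
theorem IsResidualLimitOf.isSubsystemOf (h : E.IsResidualLimitOf F p) : E.IsSubsystemOf F := by
  induction h with
  | stable F p _ _ => exact IsSubsystemOf.refl F
  | step F p D D' h3 h4 _ ih => exact ih.trans (h4.2.1.1.trans h3.2.1)

theorem IsSaturated.exists_isResidualLimitOf (hF : F.IsSaturated p) (hS : IsPGroup p S) :
    ∃ (U : Subgroup Ω) (L : FusionSystem U), L.IsResidualLimitOf F p := by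
  revert hF hS
  refine H1.subsystem_induction (C := fun {S} F => F.IsSaturated p → IsPGroup p S →
    ∃ (U : Subgroup Ω) (L : FusionSystem U), L.IsResidualLimitOf F p) ?_ F
  intro S _ F ih hF hS
  have hle := hyperfocalSubgroup_le F p
  have := finite_of_le hle
  obtain ⟨D, h1, h2⟩ := exists_pPowerIndex hF hS hle le_rfl
  have h3 := ppMul_isPPrimeResidual h1 (hS.to_le hle)
  by_cases hc : F.IsSubsystemOf (ppMul h1 (hS.to_le hle) (autZero_le h1 (hS.to_le hle)))
  · refine ⟨S, F, .stable F p (le_antisymm hle hc.le) ?_⟩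
    refine same_induction (C := fun {S} F => F.IsPPrimeResidual p F) h2.1 (hc.trans h3.2.1.1) ?_
    rwa [eq_of_sub_of_sub h3.2.1.1 (h2.1.trans hc)] at h3
  · obtain ⟨U, L, hL⟩ := ih _ _ (h3.2.1.1.trans h2.1) hc h3.1 (hS.to_le hle)
    exact ⟨U, L, .step F p D _ ⟨h1, h2⟩ h3 hL⟩

/-- `E` and `F` have the same residual limits. -/
def SameLimit (E : FusionSystem T) (F : FusionSystem S) (p : ℕ) : Prop :=
  ∀ (U V : Subgroup Ω) (L : FusionSystem U) (L' : FusionSystem V), L.IsResidualLimitOf E p →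
    L'.IsResidualLimitOf F p → L.IsSubsystemOf L' ∧ L'.IsSubsystemOf L

omit [Finite S] [Fact p.Prime] in
theorem SameLimit.symm (h : E.SameLimit F p) : F.SameLimit E p :=
  fun U V L L' h1 h2 => (h V U L' L h2 h1).symm

theorem sameLimit_refl (hS : IsPGroup p S) (F : FusionSystem S) : F.SameLimit F p :=
  fun _ _ _ _ h1 h2 => S5203.limit_unique h1 hS h2

theorem SameLimit.trans (hF : F.IsSaturated p) (hS : IsPGroup p S) (h : E.SameLimit F p)
    (h' : F.SameLimit D p) : E.SameLimit D p := by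
  obtain ⟨W, M, hM⟩ := hF.exists_isResidualLimitOf hS
  intro U V L L' h1 h2
  obtain ⟨a, b⟩ := h _ _ _ _ h1 hM
  obtain ⟨c, d⟩ := h' _ _ _ _ hM h2
  exact ⟨a.trans c, d.trans b⟩

theorem sameLimit_step (hS : IsPGroup p S) {D D' : FusionSystem U}
    (hU : U = F.hyperfocalSubgroup p) (h3 : D.IsSaturated p) (h3' : D.HasPPowerIndexIn F p)
    (h4 : D.IsPPrimeResidual p D') : F.SameLimit D' p := by
  intro V W L L' h1 h2
  have hle := h3'.1.le
  have := finite_of_le hle
  obtain ⟨_, M, hM, a, b⟩ := S5203.limit_step hS h1 hU h3 h3' h4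
  obtain ⟨c, d⟩ := S5203.limit_unique hM (hS.to_le hle) h2
  exact ⟨a.trans c, d.trans b⟩

theorem sameLimit_of_pPowerIndex (hS : IsPGroup p S) (hE : E.IsSaturated p)
    (h : E.HasPPowerIndexIn F p) : E.SameLimit F p := by
  have hT := h.1.le
  have := finite_of_le hT
  have e := S5203.hyp_eq_of_index hS h
  have hle := hyperfocalSubgroup_le E p
  have := finite_of_le hle
  have hTp := hS.to_le hT
  obtain ⟨D, h1, h2⟩ := exists_pPowerIndex hE hTp hle le_rfl
  have h3 := ppMul_isPPrimeResidual h1 (hTp.to_le hle)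
  exact (sameLimit_step hTp rfl h1 h2 h3).trans h3.1 (hTp.to_le hle)
    (sameLimit_step hS e h1 (hasPPowerIndexIn_trans h2 h e.ge) h3).symm

theorem sameLimit_of_invariant (hF : F.IsSaturated p) (hS : IsPGroup p S) {D : FusionSystem S}
    (hD : D.IsSaturated p) (h : D.IsInvariantIn F) : D.SameLimit F p := by
  revert hF hS D
  refine H1.subsystem_induction (C := fun {S} F => F.IsSaturated p → IsPGroup p S →
    ∀ {D : FusionSystem S}, D.IsSaturated p → D.IsInvariantIn F → D.SameLimit F p) ?_ F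
  intro S _ F ih hF hS D hD h
  have hle := hyperfocalSubgroup_le F p
  have := finite_of_le hle
  have hH := hS.to_le hle
  obtain ⟨A, hA, hAi⟩ := exists_pPowerIndex hF hS hle le_rfl
  obtain ⟨D', hD', hDi⟩ := exists_pPowerIndex hD hS hle (hyp_mono (Inv.sub h))
  have hDF := hDi.1.trans (Inv.sub h)
  by_cases hc : F.IsSubsystemOf D'
  · rw [eq_of_sub_of_sub (Inv.sub h) (hc.trans hDi.1)]
    exact sameLimit_refl hS F
  have h1 : D'.IsInvariantIn F := isInvariantIn_of_pPowerIndex hS h hD hD' hDi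
    fun g hg x hx => map_hyp_of_isMor_top hg.mor hx
  have h2 : D'.IsInvariantIn A :=
    h1.of_between hS hA (le_of_hasPPowerIndexIn hS hD' hDF le_rfl hAi) hAi.1
  have h3 := ppMul_isPPrimeResidual hA hH
  have h4 := h3.of_index hD' (hasPrimeToPIndexIn_of_invariant hA h2)
  have h5 := ih _ D' hDF hc hD' hH h4.1 (pPrimeResidual_isNormalIn hD' hH h4).1.2.2
  exact ((sameLimit_of_pPowerIndex hS hD' hDi).symm.trans hD' hH h5.symm).trans h4.1 hH
    (sameLimit_step hS rfl hA hAi h3).symm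

/-- A stage of the reduction of `F` towards `E`: an invariant saturated subsystem above `E`
inducing `K` on `T`, over the elements of `S` acting on `T` through `K`. -/
def Stage (F : FusionSystem S) (E : FusionSystem T) (p : ℕ) (K : Subgroup (MulAut T)) : Prop :=
  ∃ (R : Subgroup Ω) (D : FusionSystem R), R = autPre S T K ∧ D.IsSaturated p ∧
    D.IsInvariantIn F ∧ E.IsSubsystemOf D ∧ D.autGroup T = K ∧ D.SameLimit F p

theorem stage_top (hF : F.IsSaturated p) (hS : IsPGroup p S) (hE : E.IsInvariantIn F) :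
    Stage F E p (F.autGroup T) :=
  ⟨S, F, le_antisymm (fun _ ha => ⟨ha, (Inv.sc hE).le_normalizer ha,
    conjAut_mem_autGroup F (Inv.le hE) ha _⟩) autPre_le, hF, isInvariantIn_self F, Inv.sub hE, rfl,
    sameLimit_refl hS F⟩

theorem Stage.pPower (hF : F.IsSaturated p) (hS : IsPGroup p S) (hE : E.IsInvariantIn F)
    (hEs : E.IsSaturated p) {K M : Subgroup (MulAut T)} (h : Stage F E p K) (hMK : M ≤ K)
    (hEM : E.autGroup T ≤ M) (hn : F.autGroup T ≤ Subgroup.normalizer (M : Set (MulAut T)))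
    (hi : ∀ α ∈ K, (orderOf α).Coprime p → α ∈ M) : Stage F E p M := by
  obtain ⟨R, D, hR, hD, hDF, hED, hK, hL⟩ := h
  have hRS := Inv.le hDF
  have := finite_of_le hRS
  have hRp := hS.to_le hRS
  have hTS := Inv.le hE
  have hTR := hED.le
  have hsc := Inv.sc hE
  have hN := hsc.le_normalizer
  have hKF : K ≤ F.autGroup T := hK ▸ (Inv.sub hDF).autGroup_le T
  have hle : autPre S T M ≤ R := by
    rw [hR]; exact fun a ⟨h1, h2, h3⟩ => ⟨h1, h2, hMK h3⟩
  have hT' : T ≤ autPre S T M := le_autPre_of_inn_le hTS ((inn_le_autGroup E le_rfl).trans hEM)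
  have hstab : ∀ P g, T ≤ P → F.IsMor P g → ∀ x ∈ P, x ∈ autPre S T M → g x ∈ autPre S T M := by
    intro P g hP hg x hx hx'
    obtain ⟨α, hα, e⟩ := (hsc.isIso_self (hg.mono hP)).exists_aut
    exact map_mem_autPre (hn hα) hg hP (fun y hy => (e y hy).symm) hx hx'
  have hSn : S ≤ Subgroup.normalizer (autPre S T M : Set Ω) := fun a ha =>
    le_normalizer_autPre ((autInducedBy_le_autGroup F hTS le_rfl).trans hn) ⟨ha, hN ha⟩
  have hhyp : D.hyperfocalSubgroup p ≤ autPre S T M := by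
    refine hyp_le_of_above hD hRp (hsc.of_isSubsystemOf (Inv.sub hDF) hTR) (hRS.trans hSn) hT'
      fun P hP _ _ hTP α hα ho x hx => ?_
    have hPS := hP.le.trans hRS
    have hαF := (Inv.sub hDF).autGroup_le P hα
    obtain ⟨β, hβ, e⟩ := exists_res_autGroup hP.le hTP hα (autGroup_le_stabAut hsc hPS hαF)
    have hβM : β ∈ M := hi β (hK ▸ hβ) (coprime_of_res hTP e ho)
    have hx1 := hN (hPS hx)
    have hx2 := hN (hPS (equivFun_mem α hx))
    refine ⟨S.mul_mem (S.inv_mem (hPS hx)) (hPS (equivFun_mem α hx)),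
      Subgroup.mul_mem _ (Subgroup.inv_mem _ hx1) hx2, ?_⟩
    rw [conjAut_mul (Subgroup.inv_mem _ hx1) hx2, conjAut_inv hx1,
      ← aut_conj_conjAut (isHomOn_equivFun α) hTP e hx hx1 hx2]
    have := M.mul_mem (inv_conj_mem_of_mem_normalizer
      (hn (conjAut_mem_autGroup F hTS (hPS hx) hx1)) hβM) (M.inv_mem hβM)
    simpa only [mul_assoc] using this
  obtain ⟨D', hD', hDi⟩ := exists_pPowerIndex hD hRp hle hhyp
  have := finite_of_le hle
  have := finite_of_le hTS
  refine ⟨_, D', rfl, hD', isInvariantIn_of_pPowerIndex hS hDF hD hD' hDi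
    fun g hg x hx => hstab R g hTR hg.mor x (hle hx) hx,
    le_of_hasPPowerIndexIn hRp hEs hED hT' hDi, le_antisymm ?_ ?_,
    (sameLimit_of_pPowerIndex hRp hD' hDi).trans hD hRp hL⟩
  · refine le_of_sylow_of_coprime (hD'.sylowIn (hRp.to_le hle)
      (D'.isFullyNormalized_of_le_normalizer hT' (autPre_le.trans hN))) ?_
      fun α hα ho => hi α (hK ▸ hDi.1.autGroup_le T hα) ho
    rw [autInducedBy_autPre]; exact inf_le_right
  · have h1 := (hF.sylowIn hS (F.isFullyNormalized_of_le_normalizer hTS hN)).inf_of_le_normalizer hn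
    rw [inf_eq_right.2 (hMK.trans hKF), ← autInducedBy_autPre] at h1
    exact le_of_sylow_of_coprime h1 (autInducedBy_le_autGroup D' hT' le_rfl)
      fun α hα ho => (hasPPowerIndexIn_iff.1 hDi).2.2 T hT' α (hK ▸ hMK hα) ho

theorem Stage.prime (hS : IsPGroup p S) (hE : E.IsInvariantIn F)
    (hEs : E.IsSaturated p) {K M : Subgroup (MulAut T)} (h : Stage F E p K) (hMK : M ≤ K)
    (hEM : E.autGroup T ≤ M) (hn : F.autGroup T ≤ Subgroup.normalizer (M : Set (MulAut T)))
    (hi : ∀ α ∈ K, ∀ k, α ^ p ^ k = 1 → α ∈ M) : Stage F E p M := by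
  obtain ⟨R, D, hR, hD, hDF, hED, hK, hL⟩ := h
  have hRS := Inv.le hDF
  have := finite_of_le hRS
  have hRp := hS.to_le hRS
  have hTS := Inv.le hE
  have := finite_of_le hTS
  have hTR := hED.le
  have hsc := Inv.sc hE
  have hE' := hE.of_between hS hD hED (Inv.sub hDF)
  have hM : M ≤ D.autGroup T := hK ▸ hMK
  have hpp : ppIn p (D.autGroup T) ≤ M := ppIn_le_iff.2 fun α hα => hi α (hK ▸ hα)
  have h0 := autZero_le_resPre hD hRp hE' hEs hM hpp hEM
  have hres : F.autGroup R ≤ resPre R (Inv.le hE') (F.autGroup T) := fun α hα =>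
    exists_res_autGroup hRS hTR hα (autGroup_le_stabAut hsc hRS hα)
  have hnA : F.autGroup R ≤ Subgroup.normalizer
      ((D.autGroup R ⊓ resPre R (Inv.le hE') M : Subgroup (MulAut R)) : Set (MulAut R)) :=
    fun α hα => mem_normalizer_inf (Inv.autGroup_le_normalizer hDF le_rfl hα)
      (le_normalizer_resPre hn (hres hα))
  have hN := ppMul_isNormalIn hD hRp inf_le_left h0 (((Inv.sub hDF).autGroup_le R).trans hnA)
  have hA := ppMul_autGroup hD hRp inf_le_left h0
  have hle : (ppMul hD hRp (inf_le_left : D.autGroup R ⊓ resPre R (Inv.le hE') M ≤ _)).autGroup T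
      ≤ M := by
    intro α hα
    obtain ⟨γ, ⟨hγ, β, hβ, e⟩, f₀, hf₀, e'⟩ := mulSys_isMor.1 (isMor_of_mem_autGroup hTR hα)
    obtain ⟨κ, hκ, f₁, hf₁, e₁⟩ := ppSys_frA hD hRp hE' hM hpp hf₀
    rw [inf_idem] at hf₁
    obtain ⟨δ, hδ, e₂⟩ := hf₁.isIso_top.exists_aut
    convert M.mul_mem hβ (M.mul_mem hκ (hEM hδ)) using 1
    refine mulEquiv_ext_equivFun fun x hx => ?_
    rw [e' x hx, e₁ x ⟨hx, hx⟩, equivFun_mul _ _ hx, equivFun_mul _ _ hx, e₂ x hx,
      e _ (equivFun_mem κ (hf₁.mem hx))]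
  refine ⟨R, _, ?_, hN.1.1, isInvariantIn_of_primeIndex hS hDF hD hN.1.1 hN.1.2.2 (by rw [hA]; exact hnA),
    sub_ppMul_resPre hD hRp hE' hEs hM hpp hEM, le_antisymm hle fun κ hκ => ?_,
    (sameLimit_of_invariant hD hRp hN.1.1 hN.1.2.2).trans hD hRp hL⟩
  · rw [hR]
    refine le_antisymm (fun a ⟨h1, h2, h3⟩ => ⟨h1, h2, ?_⟩) fun a ⟨h1, h2, h3⟩ => ⟨h1, h2, hMK h3⟩
    obtain ⟨k, hk⟩ := hS ⟨a, h1⟩
    exact hi _ h3 k (conjAut_pow_eq_one h2 (by simpa using congrArg Subtype.val hk))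
  · obtain ⟨g, f₀, hg, hf₀, e⟩ := Inv.frM hN.1.2.2 hTR (isMor_of_mem_autGroup hTR (hM hκ))
    obtain ⟨δ, hδ, e₁⟩ := (((Inv.sc hE').of_isSubsystemOf (Inv.sub hN.1.2.2) hTR).isIso_self
      hf₀).exists_aut
    obtain ⟨γ, hγ, e₂⟩ := hg.exists_aut
    have h1 : γ ∈ D.autGroup R ⊓ resPre R (Inv.le hE') M :=
      ⟨hγ, κ * δ⁻¹, M.mul_mem hκ (M.inv_mem (hle hδ)), fun x hx => by
        rw [equivFun_mul _ _ hx, e _ (equivFun_mem δ⁻¹ hx), ← e₁ _ (equivFun_mem δ⁻¹ hx),
          equivFun_apply_inv δ hx, e₂ x (hTR hx)]⟩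
    rw [← hA] at h1
    refine ((isMor_of_mem_autGroup le_rfl h1).comp' hf₀ fun x hx => hf₀.mem hx).mem_autGroup
      fun x => ?_
    rw [← equivFun_coe, e x x.2, e₂ _ (hf₀.mem x.2)]

theorem stage_of_pSer (hF : F.IsSaturated p) (hS : IsPGroup p S) (hE : E.IsInvariantIn F)
    (hEs : E.IsSaturated p) {N : Subgroup (F.autGroup T)}
    (h : PSer p ((E.autGroup T).subgroupOf (F.autGroup T)) N) :
    (E.autGroup T).subgroupOf (F.autGroup T) ≤ N ∧
      (Stage F E p (N.map (F.autGroup T).subtype) → Stage F E p (E.autGroup T)) := by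
  have hle := (Inv.sub hE).autGroup_le T
  induction h with
  | base _ => exact ⟨le_rfl, fun h => by rwa [Subgroup.map_subgroupOf_eq_of_le hle] at h⟩
  | @step M N hM hN hMN hi ih =>
    have := hM.normal
    refine ⟨ih.1.trans hMN, fun h => ih.2 ?_⟩
    have h1 : E.autGroup T ≤ M.map (F.autGroup T).subtype := by
      rw [← Subgroup.map_subgroupOf_eq_of_le hle]; exact Subgroup.map_mono ih.1
    have h2 : F.autGroup T ≤ Subgroup.normalizer
        ((M.map (F.autGroup T).subtype : Subgroup (MulAut T)) : Set (MulAut T)) := by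
      refine le_normalizer_of_conj_mem ?_
      rintro b hb _ ⟨a, ha, rfl⟩
      exact ⟨_, this.conj_mem a ha ⟨b, hb⟩, rfl⟩
    rcases hi with ⟨m, hm⟩ | hi
    · refine h.pPower hF hS hE hEs (Subgroup.map_mono hMN) h1 h2 ?_
      rintro _ ⟨a, ha, rfl⟩ ho
      refine ⟨a, mem_of_coprime_relIndex ha ?_, rfl⟩
      rw [hm, ← Subgroup.orderOf_coe]
      exact ho.pow_right m
    · refine h.prime hS hE hEs (Subgroup.map_mono hMN) h1 h2 ?_
      rintro _ ⟨a, ha, rfl⟩ k hk
      refine ⟨a, mem_of_coprime_relIndex ha ?_, rfl⟩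
      rw [← Subgroup.orderOf_coe]
      exact Nat.Coprime.coprime_dvd_left (orderOf_dvd_of_pow_eq_one hk) (hi.symm.pow_left k)

theorem autPre_autGroup_eq (hF : F.IsSaturated p) (hS : IsPGroup p S) (hE : E.IsInvariantIn F)
    (hEs : E.IsSaturated p) : autPre S T (E.autGroup T) = T ⊔ centralizerIn S T := by
  refine le_antisymm (fun a ⟨h1, h2, h3⟩ => ?_) (sup_le
    (le_autPre_of_inn_le (Inv.le hE) (inn_le_autGroup E le_rfl)) centralizerIn_le_autPre)
  obtain ⟨t, ht, c, hc, rfl⟩ := Lead.exists_mul_of_conjAut_mem (Inv.le hE) h1 h2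
    (Lead.autInducedBy_inf_le hF hS hE hEs le_rfl
      (F.isFullyNormalized_of_le_normalizer (Inv.le hE) (Inv.sc hE).le_normalizer)
      ⟨conjAut_mem_autInducedBy h1 h2, h3⟩)
  exact Subgroup.mul_mem_sup ht.1 hc

/-- Reduction of `F` to a normal subsystem over `T C_S(T)` inducing `Aut_E(T)` on `T`. -/
theorem exists_reduction (hF : F.IsSaturated p) (hS : IsPGroup p S) (hE : E.IsInvariantIn F)
    (hEs : E.IsSaturated p) [((E.autGroup T).subgroupOf (F.autGroup T)).Normal]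
    (h : IsPSolvable p (F.autGroup T ⧸ (E.autGroup T).subgroupOf (F.autGroup T))) :
    ∃ D : FusionSystem (T ⊔ centralizerIn S T), D.IsNormalIn F p ∧ E.IsSubsystemOf D ∧
      D.autGroup T = E.autGroup T ∧ D.SameLimit F p := by
  have h1 := (isPSolvable_iff.1 h).comap (QuotientGroup.mk'_surjective _)
  rw [MonoidHom.comap_bot, QuotientGroup.ker_mk', Subgroup.comap_top] at h1
  obtain ⟨R, D, hR, hD, hDF, hED, hK, hL⟩ := (stage_of_pSer hF hS hE hEs h1).2 (by
    rw [← MonoidHom.range_eq_map, Subgroup.range_subtype]; exact stage_top hF hS hE)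
  rw [autPre_autGroup_eq hF hS hE hEs] at hR
  subst hR
  exact ⟨D, IsWeaklyNormalIn.isNormalIn_of_centralizerIn_le ⟨hD, hF, hDF⟩
    ((centralizerIn_anti le_sup_left).trans le_sup_right), hED, hK, hL⟩

end FusionSystem
end Cfsg
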