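import Cfsg.Agent.Lib.Lead.Fitting
import Cfsg.Agent.Lib.H8.Comp2
import Cfsg.Agent.Lib.H8.ES4
import Cfsg.Agent.Lib.H7.Limit
import Cfsg.Agent.S5141

/-!
# Normalizers in normal subsystems; E-balance
-/

set_option autoImplicit false

namespace Cfsg
namespace FusionSystem

open Cfsg.Agent Cfsg.Agent.H7 Cfsg.Agent.H8 Cfsg.Agent.Lead

variable {Ω : Type*} [Group Ω] {S T P Q R R' U V X Y : Subgroup Ω} {p : ℕ} {F : FusionSystem S}
  {E : FusionSystem T} {f g ψ ψ' χ : Ω → Ω}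

theorem IsIso.grpIso (h : F.IsIso P Q f) (h' : F.IsIso Q P g) (e : ∀ x ∈ P, g (f x) = x) :
    GrpIso P Q f g :=
  ⟨h.mor.isHomOn, h'.mor.isHomOn, h.mapsTo, h'.mapsTo, e, fun y hy => by
    obtain ⟨x, hx, rfl⟩ := h.surj y hy
    rw [e x hx]⟩

/-- The maps of the product systems `E R` are transported by isomorphisms `R → R'`. -/
theorem genChain_EB_transport (hE : E.IsInvariantIn F) (hψ : F.IsIso R R' ψ)
    (hf : GenChain R (EB E F p R) P f) :
    ∀ χ, (∀ x ∈ P, χ (ψ x) = ψ (f x)) → GenChain R' (EB E F p R') (img P ψ) χ := by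
  obtain ⟨ψ', hψ', hg⟩ := hψ.exists_grpIso
  induction hf with
  | id hP e =>
    intro χ h
    refine GenChain.id (hg.img_le hP) fun y hy => ?_
    obtain ⟨x, hx, rfl⟩ := (hg.mem_img hP).1 hy
    rw [h x hx, e x hx]
  | @step f g k Q hf hB hm e ih =>
    intro χ h
    have hP := hf.le
    have hQ : Q ≤ R := hB.1
    refine GenChain.step (g := fun y => ψ (g (ψ' y))) (Q := img Q ψ)
      (ih (fun y => ψ (f (ψ' y))) fun x hx => by rw [hg.left x (hP hx)]) ⟨hg.img_le hQ, ?_⟩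
      (fun y hy => ?_) fun y hy => ?_
    · rcases hB.2 with ⟨rfl, r, hr, e⟩ | ⟨hc, α, hα, ho, e⟩
      · refine Or.inl ⟨hψ.img_eq, ψ r, hψ.mapsTo r hr, fun y hy => ?_⟩
        obtain ⟨x, hx, rfl⟩ := (hg.mem_img hQ).1 hy
        beta_reduce
        rw [hg.left x hx, e x hx, hψ.mor.map_conj hr hx]
      · have hi := hψ.mor.isIso_img_of_le hQ
        refine Or.inr ⟨hc.of_isIso (Inv.sc hE) ((Inv.sc hE).isIso_inf hi), hi.congrAut α,
          congrAut_mem_BE hE hi hα, coprime_congrAut hi ho, fun y hy => ?_⟩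
        obtain ⟨x, hx, rfl⟩ := (hg.mem_img hQ).1 hy
        beta_reduce
        rw [hg.left x (hQ hx), e x hx, hi.equivFun_congrAut α hx]
    · obtain ⟨x, hx, rfl⟩ := (hg.mem_img hP).1 hy
      rw [hg.left x (hP hx)]
      exact mem_img_of_mem ψ (hm x hx)
    · obtain ⟨x, hx, rfl⟩ := (hg.mem_img hP).1 hy
      rw [h x hx, e x hx, hg.left x (hP hx), hg.left _ (hQ (hm x hx))]

/-- Auxiliary statement for the invariance of product systems. -/
def ESSt (E : FusionSystem T) (F : FusionSystem S) (p : ℕ) (r : Prop → Prop → Prop)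
    (Q : Subgroup Ω) (ψ : Ω → Ω) : Prop :=
  ∀ Q', Q' ≤ Q → ∀ P, P ≤ Q' → ∀ f χ : Ω → Ω, (∀ x ∈ P, f x ∈ Q') →
    (∀ x ∈ P, χ (ψ x) = ψ (f x)) → r (GenChain (Q' ⊔ T) (EB E F p (Q' ⊔ T)) P f)
      (GenChain (img Q' ψ ⊔ T) (EB E F p (img Q' ψ ⊔ T)) (img P ψ) χ)

theorem ESSt.flip {r : Prop → Prop → Prop} (h : ESSt E F p r Q ψ) (hg : GrpIso Q R ψ ψ') :
    ESSt E F p (fun a b => r b a) R ψ' := by
  intro Q' hQ' P hP f χ hm e
  have := h (img Q' ψ') (hg.symm.img_le hQ') (img P ψ') (img_mono _ hP) χ f (fun y hy => ?_)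
    fun y hy => ?_
  · rwa [hg.symm.img_img hQ', hg.symm.img_img (hP.trans hQ')] at this
  · obtain ⟨x, hx, rfl⟩ := (hg.symm.mem_img (hP.trans hQ')).1 hy
    rw [e x hx]
    exact mem_img_of_mem _ (hm x hx)
  · obtain ⟨x, hx, rfl⟩ := (hg.symm.mem_img (hP.trans hQ')).1 hy
    rw [e x hx, hg.right x (hQ' (hP hx)), hg.right _ (hQ' (hm x hx))]

theorem ESSt.iff (h : ESSt E F p (fun a b => a → b) Q ψ) (hg : GrpIso Q R ψ ψ')
    (h' : ESSt E F p (fun a b => a → b) R ψ') : ESSt E F p Iff Q ψ :=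
  fun Q' hQ' P hP f χ hm e =>
    ⟨h Q' hQ' P hP f χ hm e, h'.flip hg.symm Q' hQ' P hP f χ hm e⟩

theorem closed_esSt (E : FusionSystem T) (F : FusionSystem S) (p : ℕ) :
    Closed F (ESSt E F p Iff) where
  congr := by
    intro Q ψ ψ₁ h e Q' hQ' P hP f χ hm e'
    have := h Q' hQ' P hP f χ hm fun x hx => by
      rw [e x (hQ' (hP hx)), e _ (hQ' (hm x hx)), e' x hx]
    rwa [img_congr fun x hx => e x (hQ' hx), img_congr fun x hx => e x (hQ' (hP hx))] at this
  mono _ h hPQ Q' hQ' := h Q' (hQ'.trans hPQ)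
  comp := by
    intro Q₁ Q₂ ψ₁ ψ₂ h₁ h₂ H₁ H₂ hm₁ Q' hQ' P hP f χ hm e
    obtain ⟨s₁, -, g₁⟩ := h₁.isIso_img.exists_grpIso
    obtain ⟨s₂, -, g₂⟩ := (h₂.isIso_img_of_le (img_le_iff.2 hm₁)).exists_grpIso
    rw [g₁.img_comp g₂ hQ', g₁.img_comp g₂ (hP.trans hQ')]
    refine (H₁ Q' hQ' P hP f (fun y => ψ₁ (f (s₁ y))) hm fun x hx => ?_).trans
      (H₂ _ ((img_mono _ hQ').trans (img_le_iff.2 hm₁)) _ (img_mono _ hP) _ χ (fun y hy => ?_)
        fun y hy => ?_)
    · rw [g₁.left x (hQ' (hP hx))]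
    · obtain ⟨x, hx, rfl⟩ := (g₁.mem_img (hP.trans hQ')).1 hy
      rw [g₁.left x (hQ' (hP hx))]
      exact mem_img_of_mem _ (hm x hx)
    · obtain ⟨x, hx, rfl⟩ := (g₁.mem_img (hP.trans hQ')).1 hy
      rw [g₁.left x (hQ' (hP hx))]
      exact e x hx
  inv h h' e H := fun Q' hQ' P hP f χ hm e' =>
    (H.flip (h.grpIso h' e) Q' hQ' P hP f χ hm e').symm

variable [Finite S] [Fact p.Prime]

theorem esSt_of_le (hE : E.IsInvariantIn F) (hψ : F.IsIso Y Y ψ) (hT : T ≤ Y) :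
    ESSt E F p (fun a b => a → b) Y ψ := by
  intro Q' hQ' P hP f χ hm e hf
  refine genChain_EB_transport hE ?_ hf χ e
  refine IsIso.sup (hψ.mor.mono (sup_le hQ' hT)) (hψ.mor.isIso_img_of_le hQ') ?_
  exact (hψ.mor.mono hT).isIso_self fun x hx => (Inv.sc hE).map_mem hψ.mor (hT hx) hx

theorem esSt_of_BE (hE : E.IsInvariantIn F) (hY : Y ≤ S) (hc : TC F T (Y ⊓ T)) {β : MulAut Y}
    (hβ : β ∈ BE E F Y) (ho : (orderOf β).Coprime p) :
    ESSt E F p (fun a b => a → b) Y (equivFun β) := by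
  intro Q' hQ' P hP f χ hm e hf
  have := finite_of_le hY
  have := finite_of_le (Inv.le hE)
  have hR : Q' ⊔ T ≤ S := sup_le (hQ'.trans hY) (Inv.le hE)
  have hmod := (mem_BE.1 hβ).2.1
  have key : ∀ γ ∈ modAut Y T, ∀ A : Subgroup Ω, T ≤ A → ∀ x ∈ Y, x ∈ A → equivFun γ x ∈ A :=
    fun γ hγ A hA x hx hxA => by simpa using A.mul_mem hxA (hA (hγ x hx))
  have e1 : img Q' (equivFun β) ⊔ T = Q' ⊔ T := by
    refine le_antisymm (sup_le (img_le_iff.2 fun x hx => key β hmod _ le_sup_right x (hQ' hx)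
      (Subgroup.mem_sup_left hx)) le_sup_right) (sup_le (fun x hx => ?_) le_sup_right)
    have := key β⁻¹ (Subgroup.inv_mem _ hmod) (img Q' (equivFun β) ⊔ T) le_sup_right _
      (equivFun_mem β (hQ' hx)) (Subgroup.mem_sup_left (mem_img_of_mem _ hx))
    rwa [equivFun_inv_apply β (hQ' hx)] at this
  rw [e1]
  obtain ⟨G, hG⟩ := exists_isES E F p hR
  rw [← hG.iff] at hf ⊢
  obtain ⟨γ, hγ⟩ := exists_res (inf_le_left : Y ⊓ (Q' ⊔ T) ≤ Y) (α := β)
    (mem_stabAut_of_finite fun x hx hx' => ⟨equivFun_mem β hx,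
      key β hmod _ le_sup_right x hx hx'.2⟩)
  have hγG : γ ∈ G.autGroup (Y ⊓ (Q' ⊔ T)) := hG.mem inf_le_right
    (by rwa [inf_assoc, inf_eq_right.2 (le_sup_right : T ≤ Q' ⊔ T)])
    (mem_BE_of_res hY inf_le_left hγ hβ) (coprime_of_res inf_le_left hγ ho)
  have hQ'' : Q' ≤ Y ⊓ (Q' ⊔ T) := le_inf hQ' le_sup_left
  have hβG : G.IsMor Q' (equivFun β) :=
    ((isMor_of_mem_autGroup inf_le_right hγG).mono hQ'').congr fun x hx => (hγ x (hQ'' hx)).symm
  obtain ⟨s, hs, hl, hr⟩ := (hβG.isIso_img_of_le hP).exists_symm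
  refine ((hβG.comp hf hm).comp hs.mor hs.mapsTo).congr fun y hy => ?_
  simp only [Function.comp_apply]
  rw [← e _ (hs.mapsTo y hy), hr y hy]

theorem esSt (hF : F.IsSaturated p) (hS : IsPGroup p S) (hE : E.IsNormalIn F p)
    (hψ : F.IsMor Q ψ) : ESSt E F p Iff Q ψ := by
  have hi := hE.1.2.2
  refine alperin_cr hF hS (closed_esSt E F p) (fun P hP hc hr hab α hα => ?_) Q ψ hψ
  have hg : ∀ α : MulAut P, GrpIso P P (equivFun α) (equivFun α⁻¹) := fun α => GrpIso.of_equiv α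
  by_cases hTP : T ≤ P
  · exact (esSt_of_le hi (isIso_of_mem_autGroup hP.le hα) hTP).iff (hg α)
      (esSt_of_le hi (isIso_of_mem_autGroup hP.le (Subgroup.inv_mem _ hα)) hTP)
  · obtain ⟨t, ht, htP⟩ := exists_mem_normalizerIn_of_not_le hS hP.le (Inv.le hi)
      (hP.le.trans (Inv.sc hi).le_normalizer) hTP
    have hdt := dt_of_cr hF hS hi hE.1.1 hc hr
    refine hab.frattini (closed_esSt E F p) (hF.isFullyAutomized hS hP) (hF.isReceptive hS hP)
      ((fam_BE hF hS hE).le_normalizer hdt) (Inv.le hi ht.1) ht.2 htP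
      (autInducedBy_le_BE hi hP.le (conjAut_mem_autInducedBy ht.1 _)) (fun β _ hβ ho => ?_) α hα
    exact (esSt_of_BE hi hP.le hdt.2 hβ ho).iff (hg β)
      (esSt_of_BE hi hP.le hdt.2 (Subgroup.inv_mem _ hβ) (by rwa [orderOf_inv]))

/-- The product system `E R` is stable under the maps of `F` between subgroups supplementing
`T` in `R`. -/
theorem isES_conj (hF : F.IsSaturated p) (hS : IsPGroup p S) (hE : E.IsNormalIn F p)
    {G : FusionSystem R} (hG : IsES E F p G) (hψ : F.IsMor Q ψ) (h1 : Q ⊔ T = R)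
    (h2 : img Q ψ ⊔ T = R) (hf : G.IsMor P f) (hP : P ≤ Q) (hm : ∀ x ∈ P, f x ∈ Q)
    (e : ∀ x ∈ P, χ (ψ x) = ψ (f x)) : G.IsMor (img P ψ) χ := by
  have := esSt hF hS hE hψ Q le_rfl P hP f χ hm e
  rw [h1, h2, ← hG.iff, ← hG.iff] at this
  exact this.1 hf

theorem isInvariantIn_of_strong (hF : F.IsSaturated p) (hS : IsPGroup p S)
    (hE : E.IsSubsystemOf F) (hT : F.StronglyClosed T)
    (h : ∀ P f Q g χ, E.IsMor P f → F.IsMor Q g → P ≤ Q → Q ≤ T → (∀ x ∈ P, f x ∈ Q) →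
      (∀ x ∈ P, χ (g x) = g (f x)) → E.IsMor (img P g) χ) : E.IsInvariantIn F := by
  refine isInvariantIn_of_normal hF hS hE hT (fun P f g hf hg => ?_) fun P hP _ => ?_
  · obtain ⟨g', -, e, -⟩ := hg.exists_symm
    have e' : ∀ x ∈ P, g (f (g' (g x))) = g (f x) := fun x hx => by rw [e x (hf.le hx)]
    exact ⟨fun y => g (f (g' y)), h P f T g _ hf hg.mor hf.le le_rfl (fun _ => hf.mem) e', e'⟩
  · refine le_normalizer_of_conj_mem fun α hα β hβ => ?_
    have hi := isIso_of_mem_autGroup (hP.trans hT.le) hα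
    have := h P _ P _ (equivFun (α * β * α⁻¹)) (isMor_of_mem_autGroup hP hβ) hi.mor le_rfl hP
      (fun _ => equivFun_mem β) fun x hx => equivFun_conj' α β hx
    rw [hi.img_eq] at this
    exact this.mem_autGroup fun x => (equivFun_coe _ x).symm

/-- A weakly normal subsystem contains a normal subsystem over the same subgroup. -/
theorem IsWeaklyNormalIn.exists_normal (hS : IsPGroup p S) (hE : E.IsWeaklyNormalIn F p) :
    ∃ D : FusionSystem T, D.IsNormalIn F p ∧ D.IsNormalIn E p := by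
  have hT := (Inv.le hE.2.2)
  have := finite_of_le hT
  have h := ppMul_isPPrimeResidual hE.1 (hS.to_le hT)
  exact ⟨_, S5141.result p hS F hE.2.1 E hE _ h, pPrimeResidual_isNormalIn hE.1 (hS.to_le hT) h⟩

theorem IsComponentIn.of_weaklyNormal {C : FusionSystem U} (hS : IsPGroup p S)
    (hC : C.IsComponentIn E p) (hE : E.IsWeaklyNormalIn F p) : C.IsComponentIn F p := by
  obtain ⟨D, h1, h2⟩ := hE.exists_normal hS
  have hT := (Inv.le hE.2.2)
  have := finite_of_le hT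
  exact isComponentIn_of_normal
    (isComponentIn_of_le (hS.to_le hT) hC h2 (subnormal_sub hC.1).le) h1

/-- `C_F(V)` is weakly normal in `N_F(V)`. -/
theorem IsKNormSys.bot_isWeaklyNormalIn (hF : F.IsSaturated p) (hS : IsPGroup p S)
    (hV : F.IsFullyNormalized V) {L : FusionSystem R} {N : FusionSystem R'}
    (hL : F.IsKNormSys V ⊥ L) (hN : F.IsKNormSys V ⊤ N) : L.IsWeaklyNormalIn N p := by
  have hNs := hN.isSaturated hF hS (hF.isFullyKNormalized_of_le hS hV _root_.le_top)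
  have := hN.finite
  have hsub := hL.mono hN (IsSubsystemOf.refl F) _root_.le_top
  refine ⟨hL.isSaturated hF hS (hF.isFullyKNormalized_of_fc hS (hF.isFullyCentralized hS hV)
    bot_le), hNs, isInvariantIn_of_strong hNs (hN.isPGroup hS) hsub ?_ ?_⟩
  · refine stronglyClosed_iff.2 ⟨hsub.le, fun P f hf x hx hxR => ?_⟩
    obtain ⟨g, hg, e, hi⟩ := hN.top_exists_ext hf
    rw [hL.bot_eq] at hxR ⊢
    rw [← e x hx]
    exact ⟨hg.mem (Subgroup.mem_sup_left hx),
      hi.map_mem_centralizer hg le_sup_right (Subgroup.mem_sup_left hx) hxR.2⟩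
  · intro P f Q g χ hf hg hPQ hQ hm e
    obtain ⟨f', hf', ef, hfix⟩ := hL.bot_exists_ext hf
    obtain ⟨g', hg', eg, hi⟩ := hN.top_exists_ext hg
    have hle : P ⊔ V ≤ Q ⊔ V := sup_le_sup_right hPQ V
    have hm' : ∀ x ∈ P ⊔ V, f' x ∈ Q ⊔ V := hf'.isHomOn.mapsTo_sup
      (fun x hx => by rw [ef x hx]; exact Subgroup.mem_sup_left (hm x hx))
      fun x hx => by rw [hfix x hx]; exact Subgroup.mem_sup_right hx
    have hiso : F.IsIso (P ⊔ V) (img P g ⊔ V) g' := IsIso.sup (hg'.mono hle)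
      (((hN.isSubsystemOf.isMor hg).isIso_img_of_le hPQ).congr fun x hx => (eg x (hPQ hx)).symm) hi
    obtain ⟨s, hs, hl, hr⟩ := hiso.exists_symm
    refine (hL.bot_isMor_of_fixed ((hg'.comp hf' hm').comp hs.mor hs.mapsTo) le_sup_right
      le_sup_left (img_le_iff.2 fun x hx => ?_) fun y hy => ?_).congr fun y hy => ?_
    · have hxR := hQ (hPQ hx)
      rw [hL.bot_eq] at hxR ⊢
      rw [← eg x (hPQ hx)]
      exact ⟨hg'.mem (Subgroup.mem_sup_left (hPQ hx)),
        hi.map_mem_centralizer hg' le_sup_right (Subgroup.mem_sup_left (hPQ hx)) hxR.2⟩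
    · obtain ⟨x, hx, rfl⟩ := hi.surj y hy
      simp only [Function.comp_apply]
      rw [hl x (Subgroup.mem_sup_right hx), hfix x hx]
    · obtain ⟨x, hx, rfl⟩ := (hg.mono hPQ).mem_img.1 hy
      simp only [Function.comp_apply]
      rw [e x hx, ← eg x (hPQ hx), hl x (Subgroup.mem_sup_left hx), ef x hx, eg _ (hm x hx)]

omit [Finite S] in
theorem IsIso.map_mem_sup (hT : F.StronglyClosed T) {X' : Subgroup Ω} (hi : F.IsIso X X' g)
    (hg : F.IsMor Y g) (hXY : X ≤ Y) {x : Ω} (hx : x ∈ Y) (hxR : x ∈ X ⊔ T) : g x ∈ X' ⊔ T := by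
  obtain ⟨a, ha, u, hu, rfl⟩ :=
    (mem_sup_of_le_normalizer (hi.le_left.trans hT.le_normalizer)).1 hxR
  have huY : u ∈ Y := by simpa using Y.mul_mem (Y.inv_mem (hXY ha)) hx
  rw [hg.map_mul (hXY ha) huY]
  exact Subgroup.mul_mem_sup (hi.mapsTo a ha) (hT.map_mem hg huY hu)

theorem isES_isFullyNormalized (hF : F.IsSaturated p) (hS : IsPGroup p S)
    (hT : F.StronglyClosed T) (hX : F.IsFullyNormalized X) {G : FusionSystem (X ⊔ T)}
    (hG : IsES E F p G) : G.IsFullyNormalized X := by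
  refine ⟨le_sup_left, fun X' hc => ?_⟩
  obtain ⟨f, hf⟩ := hc.exists_isIso
  obtain ⟨ψ, hψ, hi⟩ := hF.exists_isMor_normalizerIn hS hX (hG.sub.isConj hc).symm
  have hR : X ⊔ T ≤ X' ⊔ T := by
    obtain ⟨s, hs, e⟩ := hG.conjMod hT hf.mor
    have h1 : ∀ y ∈ X ⊔ T, s * y * s⁻¹ ∈ X' ⊔ T :=
      (isHomOn_conj (X ⊔ T) s).mapsTo_sup (fun x hx => by
        have := (X' ⊔ T).mul_mem (Subgroup.mem_sup_left (hf.mapsTo x hx))
          (Subgroup.mem_sup_right (T.inv_mem (e x hx)))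
        simpa [mul_assoc] using this) fun x hx => Subgroup.mem_sup_right
          (conj_mem_of_mem_normalizer (hT.le_normalizer (hG.le hs)) hx)
    intro y hy
    simpa [mul_assoc] using h1 _ ((X ⊔ T).mul_mem ((X ⊔ T).mul_mem ((X ⊔ T).inv_mem hs) hy) hs)
  have hle : normalizerIn (X ⊔ T) X' ≤ normalizerIn S X' := normalizerIn_mono_left hG.le
  have := finite_of_le hG.le
  refine (hψ.mono hle).card_le fun x hx => ⟨?_, hi.map_mem_normalizer hψ
    (le_normalizerIn hi.le_left) (hle hx) hx.2⟩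
  exact hi.map_mem_sup hT hψ (le_normalizerIn hi.le_left) (hle hx) (hR hx.1)

/-- `N_{EX}(X)` is weakly normal in `N_F(X)`. -/
theorem isES_normalizer_isWeaklyNormalIn (hF : F.IsSaturated p) (hS : IsPGroup p S)
    (hE : E.IsNormalIn F p) (hX : F.IsFullyNormalized X) {G : FusionSystem (X ⊔ T)}
    (hG : IsES E F p G) {M : FusionSystem V} {N : FusionSystem R} (hM : G.IsKNormSys X ⊤ M)
    (hN : F.IsKNormSys X ⊤ N) : M.IsWeaklyNormalIn N p := by
  have hT := Inv.sc hE.1.2.2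
  have hNs := hN.isSaturated hF hS (hF.isFullyKNormalized_of_le hS hX le_top)
  have := hN.finite
  have := finite_of_le hG.le
  have hGs := hG.isSaturated hF hS hE le_sup_right
  have hGp := hS.to_le hG.le
  have hsub := hM.mono hN hG.sub le_top
  have hsc : N.StronglyClosed V := by
    refine stronglyClosed_iff.2 ⟨hsub.le, fun P f hf x hx hxV => ?_⟩
    obtain ⟨g, hg, e, hi⟩ := hN.top_exists_ext hf
    rw [hM.top_eq] at hxV ⊢
    rw [← e x hx]
    exact ⟨hi.map_mem_sup hT hg le_sup_right (Subgroup.mem_sup_left hx) hxV.1,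
      hi.map_mem_normalizer hg le_sup_right (Subgroup.mem_sup_left hx) hxV.2⟩
  refine ⟨hM.isSaturated hGs hGp (hGs.isFullyKNormalized_of_le hGp
    (isES_isFullyNormalized hF hS hT hX hG) le_top), hNs,
    isInvariantIn_of_strong hNs (hN.isPGroup hS) hsub hsc ?_⟩
  intro P f Q g χ hf hg hPQ hQ hm e
  obtain ⟨f', hf', ef, hfi⟩ := hM.top_exists_ext hf
  obtain ⟨g', hg', eg, hi⟩ := hN.top_exists_ext hg
  have hVR : V ≤ X ⊔ T := hM.isSubsystemOf.le
  have hle : P ⊔ X ≤ Q ⊔ X := sup_le_sup_right hPQ X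
  have hm' : ∀ x ∈ P ⊔ X, f' x ∈ Q ⊔ X := hf'.isHomOn.mapsTo_sup
    (fun x hx => by rw [ef x hx]; exact Subgroup.mem_sup_left (hm x hx))
    fun x hx => Subgroup.mem_sup_right (hfi.mapsTo x hx)
  have hiso : ∀ P, P ≤ Q → F.IsIso (P ⊔ X) (img P g ⊔ X) g' := fun P hPQ =>
    IsIso.sup (hg'.mono (sup_le_sup_right hPQ X))
      (((hN.isSubsystemOf.isMor hg).isIso_img_of_le hPQ).congr fun x hx => (eg x (hPQ hx)).symm) hi
  have himg : ∀ P, P ≤ Q → img P g ≤ V := fun P hPQ =>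
    img_le_iff.2 fun x hx => hsc.map_mem hg (hPQ hx) (hQ (hPQ hx))
  obtain ⟨s, hs, hl, hr⟩ := (hiso P hPQ).exists_symm
  have h1 := isES_conj (χ := g' ∘ f' ∘ s) hF hS hE hG hg' (le_antisymm
      (sup_le (sup_le (hQ.trans hVR) le_sup_left) le_sup_right)
      (sup_le_sup_right le_sup_right T)) ?_ hf' hle hm' fun x hx => by
    simp only [Function.comp_apply]; rw [hl x hx]
  · rw [(hiso P hPQ).img_eq] at h1
    refine (hM.top_isMor_of_isIso h1 le_sup_right le_sup_left (himg P hPQ)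
      ((h1.mono le_sup_right).isIso_self fun y hy => ?_)).congr fun y hy => ?_
    · obtain ⟨x, hx, rfl⟩ := hi.surj y hy
      simp only [Function.comp_apply]
      rw [hl x (Subgroup.mem_sup_right hx)]
      exact hi.mapsTo _ (hfi.mapsTo x hx)
    · obtain ⟨x, hx, rfl⟩ := (hg.mono hPQ).mem_img.1 hy
      simp only [Function.comp_apply]
      rw [e x hx, ← eg x (hPQ hx), hl x (Subgroup.mem_sup_left hx), ef x hx, eg _ (hm x hx)]
  · rw [(hiso Q le_rfl).img_eq]
    exact le_antisymm (sup_le (sup_le ((himg Q le_rfl).trans hVR) le_sup_left) le_sup_right)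
      (sup_le_sup_right le_sup_right T)

/-- A perfect saturated subsystem lies in every subsystem of `p`-power index. -/
theorem isSubsystemOf_of_hyp (hS : IsPGroup p S) (hE : E.HasPPowerIndexIn F p)
    {K : FusionSystem U} (hK : K.IsSaturated p) (hKF : K.IsSubsystemOf F)
    (hh : U ≤ K.hyperfocalSubgroup p) : K.IsSubsystemOf E := by
  have := finite_of_le hKF.le
  have hU : U ≤ T := hh.trans ((hyp_mono hKF).trans hE.2.1)
  refine le_of_p' hK (hS.to_le hKF.le) hU fun P hP _ _ α hα ho => hE.2.2 P (hP.le.trans hU) ?_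
  rw [← pResIn_eq_map]
  exact mem_pResIn (hKF.autGroup_le P hα) ho

/-- A normal subsystem of `N_F(X)` over `X N_T(X)` whose perfect subsystems lie in `E`. -/
theorem exists_normal_in_normalizer (hF : F.IsSaturated p) (hS : IsPGroup p S)
    (hE : E.IsNormalIn F p) (hX : F.IsFullyNormalized X) {N : FusionSystem R}
    (hN : F.IsKNormSys X ⊤ N) : ∃ M : FusionSystem (normalizerIn (X ⊔ T) X), M.IsNormalIn N p ∧
      ∀ (U : Subgroup Ω) (K : FusionSystem U), K.IsSaturated p → K.IsSubsystemOf M →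
        U ≤ K.hyperfocalSubgroup p → K.IsSubsystemOf E := by
  have hR : X ⊔ T ≤ S := sup_le hX.le (Inv.le hE.1.2.2)
  obtain ⟨G, hG⟩ := exists_isES E F p hR
  obtain ⟨M, hM⟩ := G.exists_isKNormSys (le_sup_left : X ≤ X ⊔ T) ⊤ kNormalizerIn_top.symm
  have := hN.finite
  have := finite_of_le hR
  obtain ⟨M₀, h1, h2⟩ :=
    (isES_normalizer_isWeaklyNormalIn hF hS hE hX hG hM hN).exists_normal (hN.isPGroup hS)
  exact ⟨M₀, h1, fun U K hK hKM hh => isSubsystemOf_of_hyp (hS.to_le hR)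
    (hG.hasPPowerIndexIn hS hE.1 le_sup_right) hK
    (hKM.trans ((Inv.sub h2.1.2.2).trans hM.isSubsystemOf)) hh⟩

theorem IsKNormSys.isFullyCentralized_of_stronglyClosed (hF : F.IsSaturated p)
    (hS : IsPGroup p S) (hX : F.IsFullyNormalized X) {N : FusionSystem R}
    (hN : F.IsKNormSys X ⊤ N) (hV : N.StronglyClosed V) (hXV : X ≤ V) :
    F.IsFullyCentralized V := by
  have := hN.finite
  refine ⟨hV.le.trans hN.isSubsystemOf.le, fun V' hc => ?_⟩
  obtain ⟨f, hf⟩ := hc.exists_isIso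
  have hXi := hf.mor.isIso_img_of_le hXV
  have hX' : img X f ≤ V' := img_le_iff.2 fun x hx => hf.mapsTo x (hXV hx)
  obtain ⟨g, hg, hgf⟩ := hN.exists_comp hS (hF.isFullyKNormalized_of_le hS hX _root_.le_top) hXV hV.le
    hf.mor (R := centralizerIn S V') ((centralizerIn_anti hX').trans centralizerIn_le_normalizerIn)
    fun a ha => ⟨1, trivial, fun x hx => by
      rw [equivFun_one hx, conj_eq_of_mem_centralizer ha.2 (hf.mapsTo x (hXV hx))]⟩
  rw [hf.img_eq] at hg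
  have h1 : N.IsIso V V (g ∘ f) := hgf.isIso_self fun x hx => hV.map_mem hgf hx hx
  have h2 : F.IsIso V' V g := ⟨hg.mono le_sup_left, fun y hy => by
    obtain ⟨x, hx, rfl⟩ := hf.surj y hy
    exact h1.mapsTo x hx, fun y hy => by
    obtain ⟨x, hx, rfl⟩ := h1.surj y hy
    exact ⟨f x, hf.mapsTo x hx, rfl⟩⟩
  exact (hg.mono le_sup_right).card_le fun x hx => ⟨hg.mem (Subgroup.mem_sup_right hx),
    h2.map_mem_centralizer hg le_sup_left (Subgroup.mem_sup_right hx) hx.2⟩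

/-- Components of normalizers lie in every self-centralizing normal subsystem. -/
theorem component_normalizer_sub (hF : F.IsSaturated p) (hS : IsPGroup p S)
    (hE : E.IsNormalIn F p) (hC : CE E F p ≤ T) : ∀ X, X ≤ S → F.IsFullyNormalized X →
      ∀ (R : Subgroup Ω) (N : FusionSystem R), F.IsKNormSys X ⊤ N →
        ∀ (U : Subgroup Ω) (K : FusionSystem U), K.IsComponentIn N p → K.IsSubsystemOf E := by
  refine card_induction_down fun X _ ih hX R N hN U K hK => ?_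
  have hi := hE.1.2.2
  have hT := Inv.sc hi
  have hNs := hN.isSaturated hF hS (hF.isFullyKNormalized_of_le hS hX le_top)
  have := hN.finite
  have hRp := hN.isPGroup hS
  have hKN := subnormal_sub hK.1
  have := finite_of_le hKN.le
  by_cases hTX : T ≤ X
  · exfalso
    have h1 : ∀ P f, K.IsMor P f → N.IsCentMor X P f := fun P f hf =>
      IsComponentIn.isCentMor hRp hNs hK (hN.isNormal_top hX.le) hf
    have h2 := focal_le_CE hF hS hE (D := K) fun P f hf => by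
      obtain ⟨hP, g, hg, e, hfix⟩ := IsCentMor.of_sub (h1 P f hf) hN.isSubsystemOf
      exact ⟨hP.trans (centralizerIn_anti hTX), g, hg.mono (sup_le_sup_left hTX P), e,
        fun x hx => hfix x (hTX hx)⟩
    exact Quasisimple.not_fixesOn (hRp.to_le hKN.le) hK.2
      ((Quasisimple.le_focal hK.2).trans (h2.trans (hC.trans hTX)))
      fun P f hf x hx hxX => IsCentMor.apply_eq (h1 P f hf) hx hxX
  obtain ⟨M, hM, hMK⟩ := exists_normal_in_normalizer hF hS hE hX hN
  obtain ⟨D, hD⟩ := exists_isCentSys hNs hRp hM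
  rcases dichotomy hRp hK hM hD with h | h
  · exact hMK U K hK.2.1 (subnormal_sub h.1) hK.2.2.1.ge
  set V := normalizerIn (X ⊔ T) X with hV
  have hVs : N.StronglyClosed V := Inv.sc hM.1.2.2
  have hXV : X ≤ V := le_normalizerIn le_sup_left
  have hlt : Nat.card X < Nat.card V := by
    obtain ⟨t, ht, htX⟩ := exists_mem_normalizerIn_of_not_le hS hX.le hT.le
      (hX.le.trans hT.le_normalizer) hTX
    have := finite_of_le hVs.le
    exact card_lt_of_mem hXV ⟨Subgroup.mem_sup_right ht.1, ht.2⟩ htX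
  have hVc := hN.isFullyCentralized_of_stronglyClosed hF hS hX hVs hXV
  obtain ⟨L, hL⟩ := F.exists_isKNormSys hVc.le ⊥ kNormalizerIn_bot.symm
  have hLs := hL.isSaturated hF hS (hF.isFullyKNormalized_of_fc hS hVc bot_le)
  have hLN : L.IsSubsystemOf N := isSubsystemOf_iff.2 fun P f hf => by
    obtain ⟨g, hg, e, hfix⟩ := hL.bot_exists_ext hf
    refine (hN.top_isMor_of_isIso hg (hXV.trans le_sup_right) le_sup_left ?_
      ((isIso_id F hX.le).congr fun x hx => (hfix x (hXV hx)).symm)).congr e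
    rw [hN.top_eq]
    exact hf.le.trans ((centralizerIn_anti hXV).trans centralizerIn_le_normalizerIn)
  have hDL : D.IsSubsystemOf L := isSubsystemOf_iff.2 fun P f hf =>
    hL.bot_isMor_iff.2 (IsCentMor.of_sub (hD.isCentMor hNs hRp hVs hf) hN.isSubsystemOf)
  have hKL : K.IsComponentIn L p := h.of_weaklyNormal (hL.isPGroup hS)
    ⟨hD.normal.1.1, hLs, hD.normal.1.2.2.of_between hRp hLs hDL hLN⟩
  obtain ⟨V', χ, hV', hχ, hiso⟩ := hF.exists_isFullyNormalized hS hVc.le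
  obtain ⟨L', hL'⟩ := F.exists_isKNormSys hV'.le ⊥ kNormalizerIn_bot.symm
  obtain ⟨N', hN'⟩ := F.exists_isKNormSys hV'.le ⊤ kNormalizerIn_top.symm
  obtain ⟨χ', hvia⟩ := cent_isoVia hVc hχ (le_normalizerIn hVc.le) centralizerIn_le_normalizerIn
    hiso hL hL'
  have hU : U ≤ centralizerIn S V := (subnormal_sub hKL.1).le
  obtain ⟨K', hK'⟩ := hvia.exists_sub hU K
  have hK'N := (IsoVia.isComponentIn hvia hK' hKL).of_weaklyNormal (hN'.isPGroup hS)
    (hL'.bot_isWeaklyNormalIn hF hS hV' hN')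
  have hK'E := ih V' hV'.le (hiso.card_eq ▸ hlt) hV' _ N' hN' _ K' hK'N
  have hχU := hχ.isIso_img_of_le (hU.trans centralizerIn_le_normalizerIn)
  have hχ' := hχU.symm_of_left_inv hK'.left
  refine isSubsystemOf_iff.2 fun P f hf => ?_
  refine Inv.conj_isMor hi (hK'E.isMor (hK'.mor P f hf)) hχ'.mor (img_mono _ hf.le)
    (fun y hy => (hK'.mor P f hf).mem hy) ((hχU.mor.isIso_img_of_le hf.le).symm_of_left_inv
      fun x hx => hK'.left x (hf.le hx)) fun y hy => ?_
  rw [hK'.left _ (hf.mem (((hK'.toGrpIso.mem_img_iff hf.le).1 hy).2))]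

theorem isCP_hasPPowerIndexIn {D : FusionSystem U} (hS : IsPGroup p S) (hU : U ≤ S)
    (h : IsCP (innerFusionSystem Q) E D) : E.HasPPowerIndexIn D p := by
  refine ⟨h.sub₂, hyp_le_of_conjMod (hS.to_le hU) (le_normalizer_of_conj_mem fun u hu t ht => ?_)
    fun P f hf => ?_, fun P hP => ?_⟩
  · obtain ⟨a, ha, b, hb, rfl⟩ := h.mem_iff.1 hu
    have := T.mul_mem (T.mul_mem hb ht) (T.inv_mem hb)
    rwa [show a * b * t * (a * b)⁻¹ = a * (b * t * b⁻¹) * a⁻¹ by group, h.comm a ha _ this,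
      mul_inv_cancel_right]
  · obtain ⟨P₁, P₂, g, -, -, hP, hg, h1, h2, e⟩ := h.exists_split hf
    obtain ⟨hP₁, q, hq, eq⟩ := innerFusionSystem_isMor.1 h1
    refine ⟨q, h.le₁ hq, fun x hx => ?_⟩
    obtain ⟨a, ha, b, hb, rfl⟩ := (mem_sup_of_comm fun a ha b hb =>
      h.comm a (hP₁ ha) b (h2.le hb)).1 (hP hx)
    rw [← e _ hx, hg.map_mul (Subgroup.mem_sup_left ha) (Subgroup.mem_sup_right hb), eq a ha,
      show (q * (a * b) * q⁻¹)⁻¹ * (q * a * q⁻¹ * g b) = (q * b * q⁻¹)⁻¹ * g b by group,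
      h.comm q hq b (h2.le hb), mul_inv_cancel_right]
    exact T.mul_mem (T.inv_mem (h2.le hb)) (h2.mem hb)
  · refine (Subgroup.map_subtype_le _).trans fun α hα => ?_
    exact (h.symm.isMor_of_le₁ (isMor_of_mem_autGroup (hP.trans h.le₂) hα) hP).mem_autGroup
      fun x => (equivFun_coe α x).symm

/-- Components of normalizers lie in the layer. -/
theorem IsLayerOf.component_normalizer_sub (hS : IsPGroup p S) (hE : E.IsLayerOf F p)
    (hX : F.IsFullyNormalized X) {N : FusionSystem R} (hN : F.IsKNormSys X ⊤ N)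
    {K : FusionSystem U} (hK : K.IsComponentIn N p) : K.IsSubsystemOf E := by
  have hF := hE.1.1.2.1
  obtain ⟨W, D, hD⟩ := exists_isGeneralizedFittingOf hF hS
  have hDn := IsGenFit.isNormalIn hS hD
  have h1 := FusionSystem.component_normalizer_sub hF hS hDn (IsGenFit.CE_le hS hD) X hX.le hX
    R N hN U K hK
  obtain ⟨T', E', hE', hcp⟩ := isGeneralizedFittingOf_iff.1 hD
  have hW := Inv.le hDn.1.2.2
  have := finite_of_le hW
  exact (isSubsystemOf_of_hyp (hS.to_le hW) (isCP_hasPPowerIndexIn hS hW hcp) hK.2.1 h1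
    hK.2.2.1.ge).trans (IsLayerOf.sub_layer hE' hE)

/-- The layer is perfect. -/
theorem IsLayerOf.le_hyp (hS : IsPGroup p S) (hE : E.IsLayerOf F p) :
    T ≤ E.hyperfocalSubgroup p := by
  have hT := Inv.le hE.1.1.2.2
  have := finite_of_le hT
  obtain ⟨D, hD⟩ := exists_pPowerIndex hE.1.1.1 (hS.to_le hT) (E.hyperfocalSubgroup_le p) le_rfl
  refine (IsLayerOf.le_of hS hE (isNormalIn_of_isPResidual hS hE.1 hD) fun U C hC => ?_).le
  exact hC.2.2.1.ge.trans (hyp_mono (IsLayerOf.sub hE hC))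

/-- **E-balance.** -/
theorem IsLayerOf.normalizer_sub (hS : IsPGroup p S) (hE : E.IsLayerOf F p)
    (hX : F.IsFullyNormalized X) {N : FusionSystem R} (hN : F.IsKNormSys X ⊤ N)
    {EN : FusionSystem U} (hEN : EN.IsLayerOf N p) : EN.IsSubsystemOf E := by
  have hF := hE.1.1.2.1
  have := hN.finite
  obtain ⟨M, hM, hMK⟩ := exists_normal_in_normalizer hF hS hE.1 hX hN
  refine hMK U EN hEN.1.1.1 (IsLayerOf.le_of (hN.isPGroup hS) hEN hM fun W C hC x hx => ?_)
    (hEN.le_hyp (hN.isPGroup hS))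
  exact ⟨Subgroup.mem_sup_right ((hE.component_normalizer_sub hS hX hN hC).le hx),
    hN.le_normalizer ((subnormal_sub hC.1).le hx)⟩

end FusionSystem
end Cfsg
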