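import Cfsg.Agent.Lib.H7.Small
import Cfsg.Agent.Lib.Lead.Tate

set_option autoImplicit false

open scoped commutatorElement

namespace Cfsg
namespace FusionSystem

open Cfsg.Agent Cfsg.Agent.H7 Cfsg.Agent.H8

variable {Ω : Type*} [Group Ω] {S T : Subgroup Ω} {p : ℕ}
variable {F : FusionSystem S} {P Q R : Subgroup Ω} {f g : Ω → Ω}

theorem stronglyClosed_inner_iff : (innerFusionSystem S).StronglyClosed Q ↔
    Q ≤ S ∧ S ≤ Subgroup.normalizer (Q : Set Ω) := by
  refine ⟨fun h => ⟨h.le, h.le_normalizer⟩, fun h => stronglyClosed_iff.2 ⟨h.1, ?_⟩⟩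
  intro P f hf x hx hxQ
  obtain ⟨-, s, hs, e⟩ := innerFusionSystem_isMor.1 hf
  rw [e x hx]; exact conj_mem_of_mem_normalizer (h.2 hs) hxQ

variable [Fact p.Prime] [Finite S]

theorem IsSaturated.eq_inner_of_hyp_le_Phi (hF : F.IsSaturated p) (hS : IsPGroup p S)
    (h : F.hyperfocalSubgroup p ≤ H9.Phi p S) : F = innerFusionSystem S := by
  refine (hF.eq_inner_iff_hyp hS).2 (Lead.tate hS hF ?_ bot_le ?_)
  · rw [Subgroup.normalizer_eq_top]; exact le_top
  · rw [H9.map_frattini_eq_Phi hS, sup_bot_eq]; exact h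

theorem IsSaturated.eq_inner_of_stronglyClosed (hF : F.IsSaturated p) (hS : IsPGroup p S)
    (hA : IsPGroup p (F.autGroup S)) (hQ : F.StronglyClosed Q) (h1 : ⁅S, S⁆ ≤ Q)
    (h2 : Q ≤ H9.Phi p S) : F = innerFusionSystem S :=
  hF.eq_inner_of_hyp_le_Phi hS ((hF.hyp_le_of_commutator_le hS hQ h1 hA).trans h2)

theorem IsSaturated.kNormSys_eq_inner_of_le_Phi (hF : F.IsSaturated p) (hS : IsPGroup p S)
    (hA : IsPGroup p (F.autGroup S)) (h1 : ⁅S, S⁆ ≤ Q) (h2 : Q ≤ H9.Phi p S)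
    {N : FusionSystem T} (hN : F.IsKNormSys Q ⊤ N) : N = innerFusionSystem T := by
  have hQ : Q ≤ S := h2.trans (H9.Phi_le S)
  have hn := H9.le_normalizer_of_commutator_le hQ h1
  obtain rfl : T = S := hN.top_eq.trans (inf_eq_left.2 hn)
  have hNs := hN.isSaturated hF hS (hF.isFullyKNormalized_of_le hS
    (F.isFullyNormalized_of_le_normalizer hQ hn) le_top)
  exact hNs.eq_inner_of_stronglyClosed hS (hA.to_le (hN.isSubsystemOf.autGroup_le _))
    (hN.isNormal_top hQ).stronglyClosed h1 h2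

theorem IsSaturated.isPGroup_autGroup_top_iff (hF : F.IsSaturated p) (hS : IsPGroup p S) :
    (∀ N : FusionSystem (normalizerIn S S), F.IsNormalizerSystem S N →
      ∀ P : Subgroup Ω, N.Hom P = (innerFusionSystem (normalizerIn S S)).Hom P) ↔
    IsPGroup p (F.autGroup S) := by
  refine ⟨fun h => ?_, fun h N hN => forall_hom_eq_iff.2
    ((hF.isKNormSys_top_eq_inner_iff hS hN.isKNormSys).2 h)⟩
  obtain ⟨N, hN⟩ := F.exists_normalizerSystem le_rfl
  exact (hF.isKNormSys_top_eq_inner_iff hS hN.isKNormSys).1 (forall_hom_eq_iff.1 (h N hN))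

end FusionSystem
end Cfsg
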