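import Cfsg.Agent.Lib.H7.Crit

set_option autoImplicit false

open scoped commutatorElement

namespace Cfsg.Agent.H7

open Cfsg.FusionSystem

section Trace

variable {G V : Type*} [Group G] [CommGroup V]

/-- The relative trace of an action on an abelian group. -/
theorem exists_relTrace (ρ : G →* MulAut V) (H : Subgroup G) [Finite G] :
    ∃ T : V →* V, (∀ x, (∀ h ∈ H, ρ h x = x) → ∀ g, ρ g (T x) = T x) ∧
      (∀ x, (∀ g, ρ g x = x) → T x = x ^ H.index) := by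
  classical
  have := Fintype.ofFinite (G ⧸ H)
  refine ⟨∏ q : G ⧸ H, (ρ q.out).toMonoidHom, fun x hx g => ?_, fun x hx => ?_⟩
  · have key : ∀ a : G, ρ (QuotientGroup.mk a : G ⧸ H).out x = ρ a x := by
      intro a
      obtain ⟨h, e⟩ := QuotientGroup.mk_out_eq_mul H a
      rw [e, map_mul, MulAut.mul_apply, hx h h.2]
    simp only [MonoidHom.finsetProd_apply, MulEquiv.coe_toMonoidHom, map_prod]
    refine Fintype.prod_equiv (MulAction.toPerm g) _ _ fun q => ?_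
    obtain ⟨a, rfl⟩ := QuotientGroup.mk_surjective q
    rw [key, MulAction.toPerm_apply, MulAction.Quotient.smul_mk, key, smul_eq_mul, map_mul,
      MulAut.mul_apply]
  · simp only [MonoidHom.finsetProd_apply, MulEquiv.coe_toMonoidHom, hx, Finset.prod_const,
      Finset.card_univ, Subgroup.index, Nat.card_eq_fintype_card]

/-- The norm map of an action on an abelian group. -/
theorem exists_norm (ρ : G →* MulAut V) [Finite G] :
    ∃ T : V →* V, (∀ x g, ρ g (T x) = T x) ∧ (∀ x g, T (ρ g x) = T x) ∧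
      (∀ x, (∀ g, ρ g x = x) → T x = x ^ Nat.card G) ∧
      ∀ K : Subgroup V, ∀ x, (∀ g, x⁻¹ * ρ g x ∈ K) → (x ^ Nat.card G)⁻¹ * T x ∈ K := by
  classical
  have := Fintype.ofFinite G
  refine ⟨∏ g : G, (ρ g).toMonoidHom, fun x g => ?_, fun x g => ?_, fun x hx => ?_,
    fun K x hx => ?_⟩
  · simp only [MonoidHom.finsetProd_apply, MulEquiv.coe_toMonoidHom, map_prod]
    exact Fintype.prod_equiv (Equiv.mulLeft g) _ _ fun a => by
      rw [Equiv.coe_mulLeft, map_mul, MulAut.mul_apply]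
  · simp only [MonoidHom.finsetProd_apply, MulEquiv.coe_toMonoidHom]
    exact Fintype.prod_equiv (Equiv.mulRight g) _ _ fun a => by
      rw [Equiv.coe_mulRight, map_mul, MulAut.mul_apply]
  · simp only [MonoidHom.finsetProd_apply, MulEquiv.coe_toMonoidHom, hx, Finset.prod_const,
      Finset.card_univ, Nat.card_eq_fintype_card]
  · simp only [MonoidHom.finsetProd_apply, MulEquiv.coe_toMonoidHom]
    rw [Nat.card_eq_fintype_card, ← inv_pow, ← Finset.card_univ, ← Finset.prod_const,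
      ← Finset.prod_mul_distrib]
    exact K.prod_mem fun g _ => hx g

end Trace

variable {Ω : Type*} [Group Ω] {p : ℕ}

theorem mem_of_pow_mem_of_not_dvd [hp : Fact p.Prime] {S A : Subgroup Ω} (hS : IsPGroup p S) {x : Ω}
    (hx : x ∈ S) {m : ℕ} (hm : ¬ p ∣ m) (h : x ^ m ∈ A) : x ∈ A := by
  obtain ⟨k, hk⟩ := hS ⟨x, hx⟩
  have hk' : x ^ p ^ k = 1 := congrArg Subtype.val hk
  exact mem_of_pow_mem_of_coprime (Nat.Coprime.pow_left k (hp.out.coprime_iff_not_dvd.2 hm))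
    (hk' ▸ A.one_mem) h

open scoped IsMulCommutative in
/-- Fixed points of `B` are complemented in the fixed points of a Sylow subgroup `W`. -/
theorem exists_complement_fixed [Fact p.Prime] {V : Subgroup Ω} [Finite V] (hV : IsPGroup p V)
    (hab : ∀ x ∈ V, ∀ y ∈ V, x * y = y * x) {W B : Subgroup (MulAut V)} (h : SylowIn p W B)
    {Z Y : Subgroup Ω} (hZ : ∀ x, x ∈ Z ↔ x ∈ V ∧ ∀ α ∈ W, equivFun α x = x)
    (hY : ∀ x, x ∈ Y ↔ x ∈ V ∧ ∀ α ∈ B, equivFun α x = x) :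
    ∃ K, K ≤ Z ∧ Y ⊓ K = ⊥ ∧ Y ⊔ K = Z := by
  have : IsMulCommutative V := isMulCommutative_iff_forall.2 hab
  obtain ⟨T, h1, h2⟩ := exists_relTrace B.subtype (W.subgroupOf B)
  have hm : ¬ p ∣ (W.subgroupOf B).index := h.not_dvd_relIndex
  have hYZ : Y ≤ Z := fun x hx => (hZ x).2 ⟨((hY x).1 hx).1, fun α hα =>
    ((hY x).1 hx).2 α (h.le hα)⟩
  have hT : ∀ x : V, (x : Ω) ∈ Y → T x = x ^ (W.subgroupOf B).index := fun x hx =>
    h2 x fun g => Subtype.ext ((equivFun_coe _ x).symm.trans (((hY x).1 hx).2 g g.2))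
  refine ⟨Z ⊓ T.ker.map V.subtype, inf_le_left, eq_bot_iff.2 ?_,
    le_antisymm (sup_le hYZ inf_le_left) fun x hx => ?_⟩
  · rintro _ ⟨hy, -, x, hx, rfl⟩
    refine mem_of_pow_mem_of_not_dvd hV x.2 hm ?_
    have := hT x hy
    rw [MonoidHom.mem_ker.1 hx] at this
    exact (congrArg Subtype.val this).symm
  · obtain ⟨hxV, hx'⟩ := (hZ x).1 hx
    refine mem_of_pow_mem_of_not_dvd hV hxV hm ?_
    have h3 : (T ⟨x, hxV⟩ : Ω) ∈ Y := (hY _).2 ⟨(T _).2, fun α hα => by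
      rw [equivFun_coe]
      exact congrArg Subtype.val (h1 ⟨x, hxV⟩ (fun β hβ => Subtype.ext
        ((equivFun_coe _ _).symm.trans (hx' β hβ))) ⟨α, hα⟩)⟩
    rw [← mul_inv_cancel_left (T ⟨x, hxV⟩ : Ω) (x ^ _)]
    refine Subgroup.mul_mem_sup h3 ⟨Z.mul_mem (Z.inv_mem (hYZ h3)) (Z.pow_mem hx _),
      (T ⟨x, hxV⟩)⁻¹ * ⟨x, hxV⟩ ^ _, ?_, rfl⟩
    change T _ = 1
    rw [map_mul, map_inv, map_pow, hT _ h3, inv_mul_cancel]

open scoped IsMulCommutative in
/-- Coprime action on an abelian group: `V = C_V(B) × [V, B]`. -/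
theorem fixed_isCompl_commutator [Fact p.Prime] {V : Subgroup Ω} [Finite V] (hV : IsPGroup p V)
    (hab : ∀ x ∈ V, ∀ y ∈ V, x * y = y * x) {B : Subgroup (MulAut V)} (hB : ¬ p ∣ Nat.card B)
    {Y K : Subgroup Ω} (hY : ∀ x, x ∈ Y ↔ x ∈ V ∧ ∀ α ∈ B, equivFun α x = x)
    (hK : ∀ R, K ≤ R ↔ ∀ α ∈ B, ∀ x ∈ V, x⁻¹ * equivFun α x ∈ R) :
    Y ⊓ K = ⊥ ∧ Y ⊔ K = V := by
  have : IsMulCommutative V := isMulCommutative_iff_forall.2 hab
  obtain ⟨T, h1, h2, h3, h4⟩ := exists_norm B.subtype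
  have hKV : K ≤ V := (hK V).2 fun α _ x hx => V.mul_mem (V.inv_mem hx) (equivFun_mem α hx)
  have hKT : K ≤ T.ker.map V.subtype := (hK _).2 fun α hα x hx =>
    ⟨(⟨x, hx⟩ : V)⁻¹ * α ⟨x, hx⟩, by
      change T _ = 1
      rw [map_mul, map_inv, inv_mul_eq_one]
      exact (h2 _ ⟨α, hα⟩).symm, by rw [equivFun_of_mem α hx]; rfl⟩
  refine ⟨eq_bot_iff.2 fun y hy => ?_, le_antisymm (sup_le (fun x hx => ((hY x).1 hx).1) hKV)
    fun x hx => ?_⟩
  · obtain ⟨x, hx, rfl⟩ := hKT hy.2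
    refine mem_of_pow_mem_of_not_dvd hV x.2 hB ?_
    have := h3 x fun g => Subtype.ext ((equivFun_coe _ x).symm.trans (((hY x).1 hy.1).2 g g.2))
    rw [MonoidHom.mem_ker.1 hx] at this
    exact (congrArg Subtype.val this).symm
  · refine mem_of_pow_mem_of_not_dvd hV hx hB ?_
    have h5 : (T ⟨x, hx⟩ : Ω) ∈ Y := (hY _).2 ⟨(T _).2, fun α hα => by
      rw [equivFun_coe]
      exact congrArg Subtype.val (h1 ⟨x, hx⟩ ⟨α, hα⟩)⟩
    have h6 := h4 (K.subgroupOf V) ⟨x, hx⟩ fun g => by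
      have := (hK K).1 le_rfl g g.2 x hx
      rwa [equivFun_of_mem _ hx] at this
    have h7 : (x ^ Nat.card B)⁻¹ * (T ⟨x, hx⟩ : Ω) ∈ K := h6
    have := Subgroup.mul_mem_sup h5 (K.inv_mem h7)
    rwa [mul_inv_rev, inv_inv, mul_inv_cancel_left] at this

end Cfsg.Agent.H7

namespace Cfsg
namespace FusionSystem

open Cfsg.Agent Cfsg.Agent.H7 Cfsg.Agent.H8

variable {Ω : Type*} [Group Ω] {S T : Subgroup Ω} {p : ℕ}
variable {F : FusionSystem S} {P Q R : Subgroup Ω} {f g : Ω → Ω}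

theorem IsSaturated.mem_center_iff_of_isNormal [Fact p.Prime] [Finite S] (hF : F.IsSaturated p)
    (hS : IsPGroup p S) (hQ : F.IsNormal Q) {x : Ω} (hx : x ∈ Q) :
    x ∈ F.center ↔ ∀ α ∈ F.autGroup Q, equivFun α x = x := by
  refine ⟨fun h α hα => (isMor_of_mem_autGroup hQ.le hα).apply_eq_of_mem_center hx h, fun h => ?_⟩
  refine (hF.mem_center_iff hS).2 ⟨hQ.le hx, fun y hy => ?_⟩
  obtain ⟨f, hf, rfl⟩ := isConjElt_iff'.1 hy
  obtain ⟨g, -, e, hi⟩ := hQ.exists_ext hf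
  obtain ⟨α, hα, e'⟩ := hi.exists_aut
  rw [← e x (Subgroup.mem_zpowers x), ← e' x hx, h α hα]

end FusionSystem
end Cfsg
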